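import Mathlib.FieldTheory.ChevalleyWarning
import Mathlib.GroupTheory.Transfer
import Mathlib.GroupTheory.Solvable
import Mathlib.RingTheory.LittleWedderburn
import Mathlib.LinearAlgebra.Dual.Lemmas
import Mathlib.LinearAlgebra.FiniteDimensional.Lemmas

/-!
An anisotropic invariant quadratic map of an irreducible module over the field with two elements
admits no nontrivial perfect group (given the odd order theorem).
-/

set_option autoImplicit false

namespace CfsgLib.OutTwo

open MvPolynomial
open scoped commutatorElement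

universe u

theorem aniso_zmod_two_cases (c : ZMod 2) : c = 0 ∨ c = 1 := by revert c; decide

/-- A function with biadditive polar is given by a polynomial of degree at most two. -/
theorem aniso_exists_poly {W ι : Type*} [AddCommGroup W] [Module (ZMod 2) W] (e : ι → W)
    (f : W → ZMod 2) (b : W →+ W →+ ZMod 2) (hf : ∀ v w, f (v + w) = f v + f w + b v w)
    (s : Finset ι) :
    ∃ P : MvPolynomial ι (ZMod 2), P.totalDegree ≤ 2 ∧
      ∀ x : ι → ZMod 2, eval x P = f (∑ i ∈ s, x i • e i) := by
  classical
  have hf0 : f 0 = 0 := by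
    have := hf 0 0
    simp only [add_zero, map_zero] at this
    rcases aniso_zmod_two_cases (f 0) with h | h
    · exact h
    · rw [h] at this; exact absurd this (by decide)
  induction s using Finset.induction_on with
  | empty => exact ⟨0, by simp, fun x => by simp [hf0]⟩
  | insert a s ha ih =>
    obtain ⟨P, hP, hev⟩ := ih
    refine ⟨P + C (f (e a)) * X a + X a * ∑ i ∈ s, C (b (e a) (e i)) * X i, ?_, fun x => ?_⟩
    · refine (totalDegree_add _ _).trans (max_le ((totalDegree_add _ _).trans (max_le hP ?_)) ?_)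
      · refine (totalDegree_mul _ _).trans ?_
        simp [totalDegree_C, totalDegree_X]
      · refine (totalDegree_mul _ _).trans ?_
        have : (∑ i ∈ s, C (b (e a) (e i)) * X i : MvPolynomial ι (ZMod 2)).totalDegree ≤ 1 := by
          refine (totalDegree_finsetSum_le fun i _ => ?_)
          refine (totalDegree_mul _ _).trans ?_
          simp [totalDegree_C, totalDegree_X]
        rw [totalDegree_X]; omega
    · have hs : ∀ y : ι → ZMod 2, b (e a) (∑ i ∈ s, y i • e i) = ∑ i ∈ s, b (e a) (e i) * y i := by
        intro y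
        rw [map_sum]
        refine Finset.sum_congr rfl fun i _ => ?_
        rcases aniso_zmod_two_cases (y i) with h | h <;> simp [h]
      rw [Finset.sum_insert ha, hf]
      rcases aniso_zmod_two_cases (x a) with h | h <;>
        simp [h, hev, hf0, hs, map_sum, add_comm, add_left_comm, add_assoc]

/-- Finitely many functions with biadditive polar and a single common zero bound the dimension. -/
theorem aniso_card_le {W : Type*} [AddCommGroup W] [Finite W] [Module (ZMod 2) W]
    (S : Submodule (ZMod 2) (W → ZMod 2))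
    (hS : ∀ f ∈ S, ∃ b : W →+ W →+ ZMod 2, ∀ v w, f (v + w) = f v + f w + b v w)
    (hz : ∀ w : W, (∀ f ∈ S, f w = 0) → w = 0) :
    Nat.card W ≤ Nat.card S ^ 2 := by
  classical
  have : Fintype W := Fintype.ofFinite W
  let bW := Module.finBasis (ZMod 2) W
  let bS := Module.finBasis (ZMod 2) S
  have hcW : Nat.card W = 2 ^ Module.finrank (ZMod 2) W := by
    rw [Module.natCard_eq_pow_finrank (K := ZMod 2), Nat.card_zmod]
  have hcS : Nat.card S = 2 ^ Module.finrank (ZMod 2) S := by
    rw [Module.natCard_eq_pow_finrank (K := ZMod 2), Nat.card_zmod]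
  rw [hcW, hcS, ← pow_mul]
  refine Nat.pow_le_pow_right two_pos ?_
  by_contra hlt
  have hp : ∀ i, ∃ P : MvPolynomial (Fin (Module.finrank (ZMod 2) W)) (ZMod 2), P.totalDegree ≤ 2 ∧
      ∀ x, eval x P = (bS i : W → ZMod 2) (bW.equivFun.symm x) := by
    intro i
    obtain ⟨b, hb⟩ := hS _ (bS i).2
    obtain ⟨P, hP, hev⟩ := aniso_exists_poly bW _ b hb Finset.univ
    exact ⟨P, hP, fun x => by rw [hev, Module.Basis.equivFun_symm_apply]⟩
  choose P hP hev using hp
  have hdeg : ∑ i ∈ (Finset.univ : Finset (Fin (Module.finrank (ZMod 2) S))), (P i).totalDegree <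
      Fintype.card (Fin (Module.finrank (ZMod 2) W)) := by
    refine lt_of_le_of_lt (Finset.sum_le_sum fun i _ => hP i) ?_
    simp only [Finset.sum_const, Finset.card_univ, Fintype.card_fin, smul_eq_mul]
    omega
  have hdvd := char_dvd_card_solutions_of_sum_lt 2 hdeg
  have hsol : ∀ x : Fin (Module.finrank (ZMod 2) W) → ZMod 2,
      (∀ i ∈ (Finset.univ : Finset (Fin (Module.finrank (ZMod 2) S))), eval x (P i) = 0) ↔ x = 0 := by
    intro x
    constructor
    · intro h
      have hw : bW.equivFun.symm x = 0 := hz _ fun f hf => by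
        have := bS.sum_repr ⟨f, hf⟩
        have h2 := congrArg (fun z : S => (z : W → ZMod 2) (bW.equivFun.symm x)) this
        simp only at h2
        rw [← h2, Submodule.coe_sum, Finset.sum_apply]
        refine Finset.sum_eq_zero fun i _ => ?_
        have := h i (Finset.mem_univ i)
        rw [hev] at this
        rw [Submodule.coe_smul, Pi.smul_apply, this, smul_zero]
      exact bW.equivFun.symm.map_eq_zero_iff.1 hw
    · rintro rfl i -
      rw [hev, map_zero]
      obtain ⟨b, hb⟩ := hS _ (bS i).2
      have := hb 0 0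
      simp only [add_zero, map_zero] at this
      rcases aniso_zmod_two_cases ((bS i : W → ZMod 2) 0) with h | h
      · exact h
      · rw [h] at this; exact absurd this (by decide)
  have hdvd' : 2 ∣ Nat.card { x : Fin (Module.finrank (ZMod 2) W) → ZMod 2 //
      ∀ i ∈ (Finset.univ : Finset (Fin (Module.finrank (ZMod 2) S))), eval x (P i) = 0 } := by
    rw [Nat.card_eq_fintype_card]; convert hdvd
  have h1 : Nat.card { x : Fin (Module.finrank (ZMod 2) W) → ZMod 2 //
      ∀ i ∈ (Finset.univ : Finset (Fin (Module.finrank (ZMod 2) S))), eval x (P i) = 0 } = 1 := by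
    rw [Nat.card_eq_one_iff_unique]
    exact ⟨⟨fun a b => Subtype.ext (((hsol a.1).1 a.2).trans ((hsol b.1).1 b.2).symm)⟩,
      ⟨⟨0, (hsol 0).2 rfl⟩⟩⟩
  rw [h1] at hdvd'
  exact absurd hdvd' (by decide)

/-- A perfect group with a Sylow 2-subgroup of order at most two is trivial. -/
theorem aniso_perfect_trivial (hFT : ∀ (X : Type u) [Group X] [Finite X], Odd (Nat.card X) → Group.IsSolvable X)
    {X : Type u} [Group X] [Finite X] (hperf : commutator X = ⊤) (P : Sylow 2 X)
    (hP : Nat.card P ≤ 2) : Subsingleton X := by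
  have hsolv : Odd (Nat.card X) → Subsingleton X := by
    intro hodd
    have := hFT X hodd
    by_contra hns
    rw [not_subsingleton_iff_nontrivial] at hns
    exact (Group.IsSolvable.commutator_lt_top_of_nontrivial X).ne hperf
  rcases Nat.lt_or_ge (Nat.card P) 2 with h | h
  · refine hsolv (Nat.not_even_iff_odd.1 fun he => ?_)
    have h1 : 2 ∣ Nat.card P := P.dvd_card_of_dvd_card he.two_dvd
    have := Nat.le_of_dvd Nat.card_pos h1
    omega
  · have h2 : Nat.card P = 2 := le_antisymm hP h
    have : Fact (Nat.Prime 2) := ⟨Nat.prime_two⟩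
    have hcyc : IsCyclic (P : Subgroup X) := isCyclic_of_prime_card h2
    have hmin : (Nat.card X).minFac = 2 :=
      (Nat.minFac_eq_two_iff _).2 (h2 ▸ (P : Subgroup X).card_subgroup_dvd_card)
    have hnc : Subgroup.normalizer ((P : Subgroup X) : Set X) ≤
        Subgroup.centralizer ((P : Subgroup X) : Set X) :=
      hcyc.normalizer_le_centralizer hmin
    have hcomp := MonoidHom.ker_transferSylow_isComplement' P hnc
    have hker : (MonoidHom.transferSylow P hnc).ker = ⊤ := by
      rw [eq_top_iff, ← hperf, commutator_def, Subgroup.commutator_le]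
      intro a _ b _
      have : IsMulCommutative (P : Subgroup X) := hcyc.isMulCommutative
      rw [MonoidHom.mem_ker, commutatorElement_def, map_mul, map_mul, map_mul, map_inv, map_inv]
      rw [show ∀ p q : (P : Subgroup X), p * q * p⁻¹ * q⁻¹ = 1 from fun p q => by
        rw [mul_comm' p q]; group]
    rw [hker, Subgroup.isComplement'_top_left] at hcomp
    rw [hcomp] at h2
    simp at h2

section

variable {D : Type u} [Group D] {W : Type*} [AddCommGroup W] (act : D →* AddMonoid.End W)

/-- The invariant functions with biadditive polar. -/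
def anisoForms : Submodule (ZMod 2) (W → ZMod 2) where
  carrier := {f | (∃ b : W →+ W →+ ZMod 2, ∀ v w, f (v + w) = f v + f w + b v w) ∧
    ∀ g w, f (act g w) = f w}
  add_mem' := by
    rintro f f' ⟨⟨b, hb⟩, hi⟩ ⟨⟨b', hb'⟩, hi'⟩
    refine ⟨⟨b + b', fun v w => ?_⟩, fun g w => ?_⟩
    · simp only [Pi.add_apply, hb, hb', AddMonoidHom.add_apply]; abel
    · simp only [Pi.add_apply, hi, hi']
  zero_mem' := ⟨⟨0, fun v w => by simp⟩, fun g w => rfl⟩
  smul_mem' := by
    rintro c f hf
    rcases aniso_zmod_two_cases c with rfl | rfl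
    · rw [zero_smul]; exact ⟨⟨0, fun v w => by simp⟩, fun g w => rfl⟩
    · rwa [one_smul]

variable {act}

theorem aniso_act_inv (g : D) (w : W) : act g (act g⁻¹ w) = w := by
  show (act g * act g⁻¹) w = w
  rw [← map_mul, mul_inv_cancel, map_one]; rfl

end

/-- No nontrivial perfect group preserves an anisotropic quadratic map of an irreducible module. -/
theorem anisotropic_false (hFT : ∀ (X : Type u) [Group X] [Finite X], Odd (Nat.card X) → Group.IsSolvable X)
    {D : Type u} [Group D] [Finite D] (hperf : commutator D = ⊤) {W Z : Type*} [AddCommGroup W] [Finite W]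
    [AddCommGroup Z] (hW2 : ∀ w : W, w + w = 0) (hZ2 : ∀ z : Z, z + z = 0) (act : D →* AddMonoid.End W)
    (q : W → Z) (B : W →+ W →+ Z)
    (hq : ∀ v w, q (v + w) = q v + q w + B v w) (hinv : ∀ g w, q (act g w) = q w)
    (hani : ∀ w, q w = 0 → w = 0) (hne : ∃ g w, act g w ≠ w)
    (hirr : ∀ K : AddSubgroup W, (∀ g, ∀ w ∈ K, act g w ∈ K) → K = ⊥ ∨ K = ⊤) : False := by
  classical
  let _ : Module (ZMod 2) W := AddCommGroup.zmodModule fun w => by rw [two_nsmul]; exact hW2 w
  let _ : Module (ZMod 2) Z := AddCommGroup.zmodModule fun z => by rw [two_nsmul]; exact hZ2 z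
  have : Fact (Nat.Prime 2) := ⟨Nat.prime_two⟩
  let S := anisoForms act
  -- anisotropy
  have hz : ∀ w : W, (∀ f ∈ S, f w = 0) → w = 0 := by
    intro w hw
    refine hani w ((Module.forall_dual_apply_eq_zero_iff (ZMod 2) (q w)).1 fun l => ?_)
    refine hw (fun v => l (q v)) ⟨⟨AddMonoidHom.compHom l.toAddMonoidHom |>.comp B, fun v v' => ?_⟩,
      fun g v => ?_⟩
    · simp [hq]
    · simp [hinv]
  -- uniqueness of a form with a given polar
  obtain ⟨g₀, w₀, hw₀⟩ := hne
  have huniq : ∀ f ∈ S, (∀ v w, f (v + w) = f v + f w) → f = 0 := by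
    intro f hf hadd
    let F : W →+ ZMod 2 := AddMonoidHom.mk' f hadd
    let K : AddSubgroup W := AddSubgroup.closure (Set.range fun x : D × W => act x.1 x.2 - x.2)
    have hK : ∀ g, ∀ w ∈ K, act g w ∈ K := by
      intro g w hw
      induction hw using AddSubgroup.closure_induction with
      | mem x hx =>
        obtain ⟨⟨h, v⟩, rfl⟩ := hx
        refine AddSubgroup.subset_closure ⟨(g * h * g⁻¹, act g v), ?_⟩
        simp only [map_sub, map_mul, AddMonoid.End.coe_mul, Function.comp_apply]
        congr 2
        rw [show act g⁻¹ (act g v) = v by simpa using aniso_act_inv (act := act) g⁻¹ v]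
      | zero => rw [map_zero]; exact K.zero_mem
      | add x y _ _ ihx ihy => rw [map_add]; exact K.add_mem ihx ihy
      | neg x _ ihx => rw [map_neg]; exact K.neg_mem ihx
    have hKt : K = ⊤ := (hirr K hK).resolve_left fun h => hw₀ (sub_eq_zero.1 (by
      have : act g₀ w₀ - w₀ ∈ K := AddSubgroup.subset_closure ⟨(g₀, w₀), rfl⟩
      rw [h, AddSubgroup.mem_bot] at this; exact this))
    have hle : K ≤ F.ker := by
      rw [AddSubgroup.closure_le]
      rintro _ ⟨⟨h, v⟩, rfl⟩
      simp only [SetLike.mem_coe, AddMonoidHom.mem_ker, map_sub]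
      exact sub_eq_zero.2 (hf.2 h v)
    funext w
    exact hle (hKt ▸ AddSubgroup.mem_top w)
  -- polar maps
  have hpol : ∀ f : S, ∃ b : W →+ W →+ ZMod 2, ∀ v w, (f : W → ZMod 2) (v + w) = f.1 v + f.1 w + b v w :=
    fun f => f.2.1
  choose pol hpol using hpol
  have hpolu : ∀ (f : S) (b : W →+ W →+ ZMod 2),
      (∀ v w, (f : W → ZMod 2) (v + w) = f.1 v + f.1 w + b v w) → pol f = b := fun f b hb => by
    refine AddMonoidHom.ext fun v => AddMonoidHom.ext fun w => ?_
    exact add_left_cancel ((hpol f v w).symm.trans (hb v w))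
  have hpolsymm : ∀ (f : S) v w, pol f v w = pol f w v := fun f v w => by
    have h := hpol f w v
    rw [add_comm w v, hpol f v w, add_comm (f.1 w) (f.1 v)] at h
    exact add_left_cancel h
  have hf0 : ∀ f : S, f.1 (0 : W) = 0 := fun f => by simpa using hpol f 0 0
  have hpolalt : ∀ (f : S) v, pol f v v = 0 := fun f v => by
    have h := hpol f v v
    rw [hW2 v, hf0, CharTwo.add_self_eq_zero, zero_add] at h
    exact h.symm
  have hpolinv : ∀ (f : S) g v w, pol f (act g v) (act g w) = pol f v w := fun f g v w => by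
    have h := hpol f (act g v) (act g w)
    rw [← map_add, f.2.2, f.2.2, f.2.2, hpol f v w] at h
    exact (add_left_cancel h).symm
  have hpolinj : ∀ f f' : S, pol f = pol f' → f = f' := fun f f' h => by
    refine sub_eq_zero.1 (Subtype.ext (huniq _ (f - f').2 fun v w => ?_))
    show f.1 (v + w) - f'.1 (v + w) = f.1 v - f'.1 v + (f.1 w - f'.1 w)
    rw [hpol f, hpol f', h]
    abel
  -- a nondegenerate polar
  have hex : ∃ f₀ : S, f₀.1 ≠ 0 := by
    by_contra h
    push Not at h
    have hall : ∀ w : W, w = 0 := fun w => hz w fun f hf => congrFun (h ⟨f, hf⟩) w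
    exact hw₀ ((hall _).trans (hall w₀).symm)
  obtain ⟨f₀, hf₀⟩ := hex
  let b₀ := pol f₀
  have hb₀inj : Function.Injective b₀ := by
    rw [injective_iff_map_eq_zero]
    rcases hirr b₀.ker (fun g w hw => by
      rw [AddMonoidHom.mem_ker] at hw ⊢
      refine AddMonoidHom.ext fun x => ?_
      rw [← aniso_act_inv (act := act) g x, hpolinv, hw]; rfl) with h | h
    · intro a ha
      exact (AddSubgroup.mem_bot).1 (h ▸ ha)
    · exfalso
      refine hf₀ (huniq _ f₀.2 fun v w => ?_)
      have : b₀ v = 0 := (h ▸ AddSubgroup.mem_top v : v ∈ b₀.ker)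
      rw [hpol f₀]
      show f₀.1 v + f₀.1 w + b₀ v w = _
      rw [this]; simp
  have hb₀surj : Function.Surjective b₀ := by
    have e : (W →+ ZMod 2) ≃ Module.Dual (ZMod 2) W :=
      { toFun := fun f => f.toZModLinearMap 2
        invFun := fun l => l.toAddMonoidHom
        left_inv := fun f => rfl
        right_inv := fun l => rfl }
    have : Finite (W →+ ZMod 2) := Finite.of_injective _ DFunLike.coe_injective
    have hc : Nat.card (W →+ ZMod 2) = Nat.card W := by
      rw [Nat.card_congr e, Module.natCard_eq_pow_finrank (K := ZMod 2), Subspace.dual_finrank_eq,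
        ← Module.natCard_eq_pow_finrank (K := ZMod 2)]
    exact (hb₀inj.bijective_of_nat_card_le hc.le).2
  -- the commutant
  let K := Subring.centralizer (Set.range act)
  have hKc : ∀ (k : K) g w, (k : AddMonoid.End W) (act g w) = act g ((k : AddMonoid.End W) w) :=
    fun k g w => (DFunLike.congr_fun ((Subring.mem_centralizer_iff.1 k.2) (act g) ⟨g, rfl⟩) w).symm
  have hKinj : ∀ k : K, k ≠ 0 → Function.Injective (k : AddMonoid.End W) := by
    intro k hk
    rw [injective_iff_map_eq_zero]
    rcases hirr (AddMonoidHom.ker (k : AddMonoid.End W)) (fun g w hw => by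
      show (k : AddMonoid.End W) (act g w) = 0
      have hw' : (k : AddMonoid.End W) w = 0 := hw
      rw [hKc k g w, hw', map_zero]) with h | h
    · intro a ha
      exact (AddSubgroup.mem_bot).1 (h ▸ ha)
    · refine absurd (Subtype.ext (AddMonoidHom.ext fun w => ?_)) hk
      exact (h ▸ AddSubgroup.mem_top w : w ∈ AddMonoidHom.ker (k : AddMonoid.End W))
  have : Finite (AddMonoid.End W) := Finite.of_injective _ DFunLike.coe_injective
  have : Nontrivial W := ⟨⟨_, _, hw₀⟩⟩
  have hnt : Nontrivial K := ⟨⟨0, 1, fun h => by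
    obtain ⟨x, hx⟩ := exists_ne (0 : W)
    exact hx (DFunLike.congr_fun (congrArg Subtype.val h) x).symm⟩⟩
  have : NoZeroDivisors K := ⟨fun {a b} hab => by
    by_contra hne
    push Not at hne
    obtain ⟨x, hx⟩ := exists_ne (0 : W)
    refine hx (hKinj b hne.2 (hKinj a hne.1 ?_))
    rw [map_zero, map_zero]
    exact DFunLike.congr_fun (congrArg Subtype.val hab) x⟩
  have : IsDomain K := NoZeroDivisors.to_isDomain K
  have hKf : IsField K := Finite.isDomain_to_isField K
  have hcomm : ∀ (a b : K) (w : W), (a : AddMonoid.End W) ((b : AddMonoid.End W) w) =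
      (b : AddMonoid.End W) ((a : AddMonoid.End W) w) := fun a b w =>
    DFunLike.congr_fun (congrArg Subtype.val (hKf.mul_comm a b)) w
  -- forms inside the commutant
  have hex : ∀ f : S, ∃ k : K, ∀ v w, b₀ ((k : AddMonoid.End W) v) w = pol f v w := by
    intro f
    let e := AddEquiv.ofBijective b₀ ⟨hb₀inj, hb₀surj⟩
    let κ : AddMonoid.End W := e.symm.toAddMonoidHom.comp (pol f)
    have hκ : ∀ v w, b₀ (κ v) w = pol f v w := fun v w =>
      DFunLike.congr_fun (e.apply_symm_apply (pol f v)) w
    refine ⟨⟨κ, Subring.mem_centralizer_iff.2 ?_⟩, hκ⟩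
    rintro _ ⟨g, rfl⟩
    refine AddMonoidHom.ext fun v => hb₀inj (AddMonoidHom.ext fun w => ?_)
    show b₀ (act g (κ v)) w = b₀ (κ (act g v)) w
    rw [hκ, ← aniso_act_inv (act := act) g w, hpolinv, hpolinv, hκ]
  choose Φ hΦ using hex
  have hΦinj : Function.Injective Φ := fun f f' h => hpolinj f f' <| by
    refine AddMonoidHom.ext fun v => AddMonoidHom.ext fun w => ?_
    have h1 := hΦ f v w
    rw [h] at h1
    exact h1.symm.trans (hΦ f' v w)
  have hΦadd : ∀ f f', Φ (f + f') = Φ f + Φ f' := fun f f' => by
    refine Subtype.ext (AddMonoidHom.ext fun v => hb₀inj (AddMonoidHom.ext fun w => ?_))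
    show b₀ ((Φ (f + f') : AddMonoid.End W) v) w =
      b₀ ((Φ f : AddMonoid.End W) v + (Φ f' : AddMonoid.End W) v) w
    rw [map_add, AddMonoidHom.add_apply, hΦ, hΦ, hΦ, hpolu (f + f') (pol f + pol f') fun x y => by
      show f.1 (x + y) + f'.1 (x + y) = f.1 x + f'.1 x + (f.1 y + f'.1 y) + (pol f x y + pol f' x y)
      rw [hpol f, hpol f']; abel]
    rfl
  have hSK : Nat.card S ≤ Nat.card K := Nat.card_le_card_of_injective Φ hΦinj
  have hWK : Nat.card W ≤ Nat.card K ^ 2 :=
    (aniso_card_le S (fun f hf => hf.1) hz).trans (Nat.pow_le_pow_left hSK 2)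
  -- orbit maps of vectors
  have hevi : ∀ e : W, e ≠ 0 → Function.Injective fun k : K => (k : AddMonoid.End W) e := by
    intro e he a b hab
    by_contra hne
    refine he (hKinj (a - b) (sub_ne_zero.2 hne) ?_)
    rw [map_zero]
    exact sub_eq_zero.2 hab
  have hbasis : ∀ e : W, e ≠ 0 → ∀ f : W, (∀ k : K, (k : AddMonoid.End W) e ≠ f) →
      Function.Bijective fun x : K × K => (x.1 : AddMonoid.End W) e + (x.2 : AddMonoid.End W) f := by
    intro e he f hf
    refine Function.Injective.bijective_of_nat_card_le (fun x y hxy => ?_)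
      (by rw [Nat.card_prod, ← sq]; exact hWK)
    have h2 : x.2 = y.2 := by
      by_contra hne
      obtain ⟨c, hc⟩ := hKf.mul_inv_cancel (sub_ne_zero.2 hne)
      refine hf (c * (y.1 - x.1)) ?_
      have h3 : ((x.2 - y.2 : K) : AddMonoid.End W) f = ((y.1 - x.1 : K) : AddMonoid.End W) e := by
        show (x.2 : AddMonoid.End W) f - (y.2 : AddMonoid.End W) f =
          (y.1 : AddMonoid.End W) e - (x.1 : AddMonoid.End W) e
        rw [sub_eq_sub_iff_add_eq_add, add_comm, hxy, add_comm]
      have h4 := congrArg (c : AddMonoid.End W) h3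
      have h5 : (c : AddMonoid.End W) (((x.2 - y.2 : K) : AddMonoid.End W) f) = f := by
        rw [hcomm]
        exact DFunLike.congr_fun (congrArg Subtype.val hc) f
      exact h4.symm.trans h5
    refine Prod.ext (hevi e he ?_) h2
    rw [h2] at hxy
    exact add_right_cancel hxy
  -- the quotient group
  let N : Subgroup D :=
    { carrier := {g | ∀ w, act g w = w}
      mul_mem' := fun {a b} ha hb w => by
        rw [map_mul, AddMonoid.End.coe_mul, Function.comp_apply, hb, ha]
      one_mem' := fun w => by rw [map_one]; rfl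
      inv_mem' := fun {a} ha w => by
        conv_lhs => rw [← ha w]
        simpa using aniso_act_inv (act := act) a⁻¹ w }
  have hN : N.Normal := ⟨fun n hn g w => by
    rw [map_mul, map_mul, AddMonoid.End.coe_mul, Function.comp_apply, AddMonoid.End.coe_mul,
      Function.comp_apply, hn, aniso_act_inv]⟩
  have hN1 : g₀ ∉ N := fun h => hw₀ (h w₀)
  obtain ⟨e₀, he₀⟩ := exists_ne (0 : W)
  rcases Classical.em (∀ f : W, ∃ k : K, (k : AddMonoid.End W) e₀ = f) with h1 | h1
  · -- dimension one
    have : commutator D ≤ N := by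
      rw [commutator_def, Subgroup.commutator_le]
      intro a _ b _
      have hab : ∀ x, act a (act b x) = act b (act a x) := fun x => by
        obtain ⟨c, rfl⟩ := h1 x
        obtain ⟨ka, hka⟩ := h1 (act a e₀)
        obtain ⟨kb, hkb⟩ := h1 (act b e₀)
        rw [← hKc, ← hKc, ← hKc, ← hKc, ← hkb, ← hka, ← hKc, ← hKc, ← hka, ← hkb, hcomm kb ka]
      show ∀ w, act ⁅a, b⁆ w = w
      intro w
      rw [commutatorElement_def, map_mul, map_mul, map_mul]
      simp only [AddMonoid.End.coe_mul, Function.comp_apply]
      rw [hab, aniso_act_inv, aniso_act_inv]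
    exact hN1 (this (hperf ▸ Subgroup.mem_top g₀))
  · -- dimension two
    push Not at h1
    obtain ⟨f₁, hf₁⟩ := h1
    have hW : Nat.card W = Nat.card K ^ 2 := by
      rw [← Nat.card_eq_of_bijective _ (hbasis e₀ he₀ f₁ hf₁), Nat.card_prod, sq]
    have hSK' : Nat.card S = Nat.card K := by
      refine le_antisymm hSK ((Nat.pow_le_pow_iff_left two_ne_zero).1 ?_)
      rw [← hW]; exact aniso_card_le S (fun f hf => hf.1) hz
    have hΦsurj : Function.Surjective Φ := (hΦinj.bijective_of_nat_card_le hSK'.ge).2
    have hadj : ∀ (k : K) v w, b₀ ((k : AddMonoid.End W) v) w = b₀ v ((k : AddMonoid.End W) w) := by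
      intro k v w
      obtain ⟨f, rfl⟩ := hΦsurj k
      rw [hΦ, hpolsymm f, ← hΦ]
      exact hpolsymm f₀ _ _
    have hiso : ∀ (k l : K) v, b₀ ((k : AddMonoid.End W) v) ((l : AddMonoid.End W) v) = 0 := by
      intro k l v
      rw [← hadj l]
      obtain ⟨f, hf⟩ := hΦsurj (l * k)
      show b₀ (((l * k : K) : AddMonoid.End W) v) v = 0
      rw [← hf, hΦ, hpolalt]
    let e := AddEquiv.ofBijective (AddMonoidHom.mk' Φ hΦadd) ⟨hΦinj, hΦsurj⟩
    let qk : K → W → ZMod 2 := fun k => (e.symm k).1
    have hqk : ∀ k v w, qk k (v + w) = qk k v + qk k w + b₀ ((k : AddMonoid.End W) v) w := by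
      intro k v w
      have : Φ (e.symm k) = k := e.apply_symm_apply k
      rw [← congrArg (fun x : K => b₀ ((x : AddMonoid.End W) v) w) this, hΦ]
      exact hpol _ v w
    have hqinv : ∀ k g w, qk k (act g w) = qk k w := fun k g w => (e.symm k).2.2 g w
    have hqadd : ∀ k l w, qk (k + l) w = qk k w + qk l w := fun k l w => by
      show (e.symm (k + l)).1 w = _
      rw [map_add]; rfl
    have hqsq : ∀ (k c : K) v, qk k ((c : AddMonoid.End W) v) = qk (k * (c * c)) v := by
      intro k c v
      have hmem : (fun x => qk k ((c : AddMonoid.End W) x)) ∈ S := by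
        refine ⟨⟨((b₀.comp ((k * (c * c) : K) : AddMonoid.End W))), fun x y => ?_⟩, fun g x => ?_⟩
        · show qk k ((c : AddMonoid.End W) (x + y)) = qk k ((c : AddMonoid.End W) x) +
            qk k ((c : AddMonoid.End W) y) +
              b₀ ((k : AddMonoid.End W) ((c : AddMonoid.End W) ((c : AddMonoid.End W) x))) y
          rw [map_add, hqk, hcomm k c ((c : AddMonoid.End W) x), hadj c]
        · show qk k ((c : AddMonoid.End W) (act g x)) = qk k ((c : AddMonoid.End W) x)
          rw [hKc, hqinv]
      have : (⟨_, hmem⟩ : S) = e.symm (k * (c * c)) := by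
        refine hpolinj _ _ ((hpolu _ (b₀.comp ((k * (c * c) : K) : AddMonoid.End W)) fun x y => ?_).trans
          (hpolu _ (b₀.comp ((k * (c * c) : K) : AddMonoid.End W)) fun x y => hqk _ x y).symm)
        show qk k ((c : AddMonoid.End W) (x + y)) = qk k ((c : AddMonoid.End W) x) +
            qk k ((c : AddMonoid.End W) y) +
              b₀ ((k : AddMonoid.End W) ((c : AddMonoid.End W) ((c : AddMonoid.End W) x))) y
        rw [map_add, hqk, hcomm k c ((c : AddMonoid.End W) x), hadj c]
      exact congrFun (congrArg Subtype.val this) v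
    have hstab : ∀ e' : W, e' ≠ 0 → ∀ g g' : D, act g e' = e' → act g' e' = e' → g ∉ N → g' ∉ N →
        ∀ w, act g w = act g' w := by
      intro e' he' g g' hg hg' hgN hg'N
      obtain ⟨f, hf⟩ : ∃ f : W, ∀ k : K, (k : AddMonoid.End W) e' ≠ f := by
        by_contra h
        push Not at h
        have hle : Nat.card W ≤ Nat.card K := Nat.card_le_card_of_surjective _ h
        have h2 : 2 ≤ Nat.card K := Finite.one_lt_card
        rw [hW, sq] at hle
        nlinarith
      have hbij := hbasis e' he' f hf
      have hl : ∀ x : D, act x e' = e' → ∃ c : K, act x f = f + (c : AddMonoid.End W) e' := by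
        intro x hx
        obtain ⟨⟨a, b⟩, hab⟩ := hbij.2 (act x f - f)
        simp only at hab
        have horth : ∀ k : K, b₀ ((k : AddMonoid.End W) e') (act x f - f) = 0 := fun k => by
          rw [map_sub, sub_eq_zero]
          conv_lhs => rw [← hx, hKc k]
          exact hpolinv f₀ x _ _
        have hb0 : b = 0 := by
          by_contra hb
          obtain ⟨c, hc⟩ := hKf.mul_inv_cancel hb
          have hef : ∀ k : K, b₀ ((k : AddMonoid.End W) e') f = 0 := fun k => by
            have h := horth (k * c)
            rw [← hab, map_add, hiso, zero_add, ← hadj b] at h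
            have hk : b * (k * c) = k := by
              rw [← mul_assoc, hKf.mul_comm b k, mul_assoc, hc, mul_one]
            have h2 : b₀ (((b * (k * c) : K) : AddMonoid.End W) e') f = 0 := h
            rwa [hk] at h2
          refine he' (hb₀inj (AddMonoidHom.ext fun w => ?_))
          obtain ⟨⟨a', b'⟩, rfl⟩ := hbij.2 w
          rw [map_zero, AddMonoidHom.zero_apply, map_add]
          have h3 : b₀ e' ((a' : AddMonoid.End W) e') = 0 := hiso 1 a' e'
          rw [h3, zero_add, ← hadj b']
          exact hef b'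
        refine ⟨a, ?_⟩
        rw [hb0] at hab
        simp only [ZeroMemClass.coe_zero] at hab
        rw [← sub_eq_iff_eq_add', ← hab]
        simp
      have hdet : ∀ x y : D, act x e' = e' → act y e' = e' → act x f = act y f → ∀ w, act x w = act y w := by
        intro x y hx hy hxy w
        obtain ⟨⟨a, b⟩, rfl⟩ := hbij.2 w
        simp only [map_add, ← hKc, hx, hy, hxy]
      obtain ⟨c, hc⟩ := hl g hg
      obtain ⟨c', hc'⟩ := hl g' hg'
      have hc0 : ∀ (x : D) (d : K), act x e' = e' → act x f = f + (d : AddMonoid.End W) e' → x ∉ N →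
          ∀ m : K, qk (m * d) e' = b₀ ((m : AddMonoid.End W) e') f := by
        intro x d hx hd hxN m
        have hd0 : d ≠ 0 := by
          rintro rfl
          refine hxN fun w => ?_
          have := hdet x 1 hx (by rw [map_one]; rfl)
            (by rw [hd, map_one]; simp) w
          rw [this, map_one]; rfl
        obtain ⟨i, hi⟩ := hKf.mul_inv_cancel hd0
        have h := hqinv (m * i) x f
        rw [hd, hqk, hqsq, add_assoc, add_eq_left] at h
        have hk : m * i * (d * d) = m * d := by
          rw [mul_assoc, ← mul_assoc i d d, hKf.mul_comm i d, hi, one_mul]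
        rw [hk] at h
        have hk2 : d * (m * i) = m := by rw [← mul_assoc, hKf.mul_comm d m, mul_assoc, hi, mul_one]
        rw [← hadj d] at h
        have h2 : qk (m * d) e' + b₀ (((d * (m * i) : K) : AddMonoid.End W) f) e' = 0 := h
        rw [hk2] at h2
        rw [CharTwo.add_eq_zero.1 h2, hadj m e' f]
        exact hpolsymm f₀ _ _
      have hcc : c = c' := by
        by_contra hne
        obtain ⟨i, hi⟩ := hKf.mul_inv_cancel (sub_ne_zero.2 hne)
        refine he' (hz e' fun f' hf' => ?_)
        let k := e ⟨f', hf'⟩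
        have hT : qk k e' = f' e' := by
          show (e.symm (e ⟨f', hf'⟩)).1 e' = f' e'
          rw [e.symm_apply_apply]
        rw [← hT]
        have h1 := hc0 g c hg hc hgN (k * i)
        have h2 := hc0 g' c' hg' hc' hg'N (k * i)
        have h3 : k * i * c = k * i * c' + k := by
          have : k * i * (c - c') = k := by rw [mul_assoc, hKf.mul_comm i, hi, mul_one]
          rw [mul_sub, sub_eq_iff_eq_add] at this
          rw [this, add_comm]
        rw [h3, hqadd, ← h2] at h1
        exact add_eq_left.1 h1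
      exact hdet g g' hg hg' (by rw [hc, hc', hcc])
    -- a Sylow subgroup of the quotient
    have hQ : commutator (D ⧸ N) = ⊤ := by
      rw [commutator_def, ← Subgroup.map_top_of_surjective (QuotientGroup.mk' N)
        (QuotientGroup.mk'_surjective N), ← Subgroup.map_commutator, ← commutator_def, hperf]
    let P : Sylow 2 D := default
    let Pq : Sylow 2 (D ⧸ N) := P.mapSurjective (QuotientGroup.mk'_surjective N)
    let _ : MulAction D W :=
      { smul := fun g w => act g w
        one_smul := fun w => by show act 1 w = w; rw [map_one]; rfl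
        mul_smul := fun g h w => by show act (g * h) w = act g (act h w); rw [map_mul]; rfl }
    have hWdvd : 2 ∣ Nat.card W := by
      obtain ⟨x, hx⟩ := exists_ne (0 : W)
      exact (addOrderOf_eq_prime (p := 2) (by rw [two_nsmul]; exact hW2 x) hx) ▸ addOrderOf_dvd_natCard x
    obtain ⟨e', hfix, he'⟩ := P.2.exists_fixed_point_of_prime_dvd_card_of_fixed_point W hWdvd
      (a := (0 : W)) (fun g => map_zero _)
    have hle : Nat.card Pq ≤ 2 := by
      by_contra h3
      have : Fintype (Pq : Subgroup (D ⧸ N)) := Fintype.ofFinite _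
      rw [Nat.card_eq_fintype_card, not_le, Fintype.two_lt_card_iff] at h3
      have hrep : ∀ x : (Pq : Subgroup (D ⧸ N)), x ≠ 1 → ∃ g : D, (g : D ⧸ N) = x.1 ∧ g ∉ N ∧ act g e' = e' := by
        rintro ⟨x, hx⟩ hx1
        obtain ⟨g, hg, rfl⟩ := Subgroup.mem_map.1 (show x ∈ (P : Subgroup D).map (QuotientGroup.mk' N) from hx)
        exact ⟨g, rfl, fun hgN => hx1 (Subtype.ext ((QuotientGroup.eq_one_iff g).2 hgN)), hfix ⟨g, hg⟩⟩
      have heq : ∀ x y : (Pq : Subgroup (D ⧸ N)), x ≠ 1 → y ≠ 1 → x = y := by
        intro x y hx hy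
        obtain ⟨g, hg, hgN, hge⟩ := hrep x hx
        obtain ⟨g', hg', hg'N, hge'⟩ := hrep y hy
        refine Subtype.ext ?_
        rw [← hg, ← hg', QuotientGroup.eq]
        intro w
        rw [map_mul, AddMonoid.End.coe_mul, Function.comp_apply,
          ← hstab e' (Ne.symm he') g g' hge hge' hgN hg'N w]
        simpa using aniso_act_inv (act := act) g⁻¹ w
      obtain ⟨a, b, c, hab, hac, hbc⟩ := h3
      by_cases ha : a = 1
      · exact hbc (heq b c (ha ▸ hab.symm) (ha ▸ hac.symm))
      · by_cases hb : b = 1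
        · exact hac (heq a c ha (hb ▸ hbc.symm))
        · exact hab (heq a b ha hb)
    have := aniso_perfect_trivial hFT hQ Pq hle
    exact hN1 ((QuotientGroup.eq_one_iff g₀).1 (Subsingleton.elim _ _))

end CfsgLib.OutTwo
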