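import Cfsg.Agent.Lib.Invol.SylowCentralizerAut
import Mathlib.Algebra.Group.End

/-!
Outer automorphisms of a simple group seen on a Sylow 2-subgroup: restriction homomorphisms and
the criterion for the solvability of `Out G`.
-/

set_option autoImplicit false
set_option linter.style.haveILetI false

open Subgroup

namespace CfsgLib.OutTwo

universe u

variable {G : Type u} [Group G]

/-- The automorphisms mapping `K` onto itself. -/
def stab (K : Subgroup G) : Subgroup (MulAut G) where
  carrier := {φ | ∀ x, φ x ∈ K ↔ x ∈ K}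
  one_mem' := fun _ => Iff.rfl
  mul_mem' := fun {a b} ha hb x => by rw [MulAut.mul_apply, ha, hb]
  inv_mem' := fun {a} ha x => by
    conv_rhs => rw [← MulAut.apply_inv_self G a x, ha]

theorem mem_stab {K : Subgroup G} {φ : MulAut G} : φ ∈ stab K ↔ ∀ x, φ x ∈ K ↔ x ∈ K := Iff.rfl

/-- Restriction to an invariant subgroup. -/
def resAut (K : Subgroup G) : ↥(stab K) →* MulAut ↥K where
  toFun φ :=
    { toFun := fun x => ⟨(φ : MulAut G) x, (φ.2 x).mpr x.2⟩
      invFun := fun x => ⟨(φ : MulAut G)⁻¹ x, ((stab K).inv_mem φ.2 x).mpr x.2⟩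
      left_inv := fun x => Subtype.ext (MulAut.inv_apply_self G _ _)
      right_inv := fun x => Subtype.ext (MulAut.apply_inv_self G _ _)
      map_mul' := fun a b => Subtype.ext (map_mul (φ : MulAut G) (a : G) (b : G)) }
  map_one' := rfl
  map_mul' _ _ := rfl

@[simp] theorem resAut_apply (K : Subgroup G) (φ : stab K) (x : K) :
    ((resAut K φ x : K) : G) = (φ : MulAut G) x := rfl

theorem conj_mem_stab {K : Subgroup G} {g : G} (hg : g ∈ normalizer (K : Set G)) :
    MulAut.conj g ∈ stab K := fun x => (Subgroup.mem_normalizer_iff.mp hg x).symm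

theorem mem_normalizer_of_conj_mem_stab {K : Subgroup G} {g : G}
    (hg : MulAut.conj g ∈ stab K) : g ∈ normalizer (K : Set G) :=
  Subgroup.mem_normalizer_iff.mpr fun x => (hg x).symm

/-- The inner automorphisms inside a subgroup of `MulAut G`. -/
abbrev innIn (M : Subgroup (MulAut G)) : Subgroup ↥M := (Cfsg.Inn G).subgroupOf M

instance innIn_normal (M : Subgroup (MulAut G)) : (innIn M).Normal :=
  Subgroup.Normal.subgroupOf inferInstance M

/-- Every class of `Out G` is represented by an automorphism fixing a given Sylow subgroup. -/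
theorem exists_stab_sylow [Finite G] {p : ℕ} [Fact p.Prime] (S : Sylow p G) (φ : MulAut G) :
    ∃ g : G, MulAut.conj g * φ ∈ stab (S : Subgroup G) := by
  let S' : Sylow p G := S.mapSurjective (f := φ.toMonoidHom) φ.surjective
  obtain ⟨g, hg⟩ := MulAction.exists_smul_eq G S' S
  refine ⟨g, ?_⟩
  have h := congrArg (fun P : Sylow p G => (P : Subgroup G)) hg
  simp only [Sylow.coe_subgroup_smul] at h
  have hmap : (S : Subgroup G).map (MulAut.conj g * φ).toMonoidHom = S := by
    show (S : Subgroup G).map ((MulAut.conj g).toMonoidHom.comp φ.toMonoidHom) = S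
    rw [← Subgroup.map_map, ← Sylow.coe_mapSurjective (f := φ.toMonoidHom) φ.surjective S]
    exact h
  intro x
  constructor
  · intro hx
    have hx' : (MulAut.conj g * φ) x ∈ (S : Subgroup G).map (MulAut.conj g * φ).toMonoidHom := by
      rwa [hmap]
    obtain ⟨y, hy, he⟩ := hx'
    rwa [← (MulAut.conj g * φ).injective he]
  · intro hx
    rw [← hmap]
    exact ⟨x, hx, rfl⟩

/-- An automorphism-stable group of automorphisms centralising the Sylow 2-subgroup is solvable. -/
theorem isSolvable_ker_res
    (hFT : ∀ (X : Type u) [Group X] [Finite X], Odd (Nat.card X) → Group.IsSolvable X)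
    [Finite G] (hO : ∀ N : Subgroup G, N.Normal → Odd (Nat.card N) → N = ⊥) (S : Sylow 2 G) :
    Group.IsSolvable ↥(resAut (S : Subgroup G)).ker := by
  let C : Subgroup (MulAut G) := (resAut (S : Subgroup G)).ker.map (stab (S : Subgroup G)).subtype
  have hC : ∀ φ : MulAut G, φ ∈ C → ∀ s : G, s ∈ S → φ s = s := by
    rintro _ ⟨φ, hφ, rfl⟩ s hs
    have h : resAut (S : Subgroup G) φ = 1 := hφ
    exact congrArg Subtype.val (DFunLike.congr_fun h ⟨s, hs⟩)
  haveI : Group.IsSolvable ↥C := CfsgLib.SylowCentAut.isSolvable hFT hO S hC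
  exact Group.isSolvable_of_isSolvable_injective
    (f := ((resAut (S : Subgroup G)).ker.equivMapOfInjective (stab (S : Subgroup G)).subtype
      (stab (S : Subgroup G)).subtype_injective).toMonoidHom)
    ((resAut (S : Subgroup G)).ker.equivMapOfInjective _ _).injective

/-- `Out G` is solvable if a homomorphism on the stabiliser of a Sylow subgroup has solvable kernel
and its range is solvable modulo the image of the inner automorphisms. -/
theorem out_isSolvable_of_hom [Finite G] {p : ℕ} [Fact p.Prime] (S : Sylow p G) {H : Type*} [Group H]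
    (f : ↥(stab (S : Subgroup G)) →* H) [hker : Group.IsSolvable ↥f.ker]
    (hrange : ∀ N : Subgroup ↥f.range, ∀ _ : N.Normal,
      N = (innIn (stab (S : Subgroup G))).map f.rangeRestrict → Group.IsSolvable (↥f.range ⧸ N)) :
    Group.IsSolvable (Cfsg.Out G) := by
  let N := (innIn (stab (S : Subgroup G))).map f.rangeRestrict
  haveI hN : N.Normal := Subgroup.Normal.map inferInstance _ f.rangeRestrict_surjective
  haveI := hrange N hN rfl
  let ψ : ↥(stab (S : Subgroup G)) ⧸ innIn (stab (S : Subgroup G)) →* ↥f.range ⧸ N :=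
    QuotientGroup.map _ _ f.rangeRestrict (Subgroup.map_le_iff_le_comap.mp le_rfl)
  haveI : Group.IsSolvable ↥f.rangeRestrict.ker := by rw [MonoidHom.ker_rangeRestrict]; exact hker
  let ι : ↥f.rangeRestrict.ker →* ↥(stab (S : Subgroup G)) ⧸ innIn (stab (S : Subgroup G)) :=
    (QuotientGroup.mk' (innIn (stab (S : Subgroup G)))).comp f.rangeRestrict.ker.subtype
  haveI : Group.IsSolvable (↥(stab (S : Subgroup G)) ⧸ innIn (stab (S : Subgroup G))) :=
    Group.isSolvable_of_ker_le_range ι ψ (by
      intro q hq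
      obtain ⟨a, rfl⟩ := QuotientGroup.mk'_surjective (innIn (stab (S : Subgroup G))) q
      have h1 : f.rangeRestrict a ∈ N := (QuotientGroup.eq_one_iff _).mp hq
      obtain ⟨i, hi, he⟩ := h1
      refine ⟨⟨a * i⁻¹, by
        have he' : f i = f a := congrArg Subtype.val he
        simp [MonoidHom.mem_ker, he']⟩, ?_⟩
      show QuotientGroup.mk' (innIn (stab (S : Subgroup G))) (a * i⁻¹) = QuotientGroup.mk' (innIn (stab (S : Subgroup G))) a
      rw [map_mul, map_inv, show QuotientGroup.mk' (innIn (stab (S : Subgroup G))) i = 1 from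
        (QuotientGroup.eq_one_iff _).mpr hi, inv_one, mul_one])
  refine Group.isSolvable_of_surjective
    (f := QuotientGroup.map (innIn (stab (S : Subgroup G))) (Cfsg.Inn G) (stab (S : Subgroup G)).subtype (fun x hx => hx)) ?_
  intro q
  obtain ⟨φ, rfl⟩ := QuotientGroup.mk'_surjective (Cfsg.Inn G) q
  obtain ⟨g, hg⟩ := exists_stab_sylow S φ
  refine ⟨QuotientGroup.mk ⟨_, hg⟩, ?_⟩
  show QuotientGroup.mk' (Cfsg.Inn G) (MulAut.conj g * φ) = QuotientGroup.mk' (Cfsg.Inn G) φ
  rw [map_mul, show QuotientGroup.mk' (Cfsg.Inn G) (MulAut.conj g) = 1 from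
    (QuotientGroup.eq_one_iff _).mpr ⟨g, rfl⟩, one_mul]

end CfsgLib.OutTwo
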