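import Cfsg.Agent.Lib.OutTwo.Basic
import Cfsg.Agent.Lib.OddOrder.OmegaFix
import Mathlib.GroupTheory.Frattini

/-!
A group of automorphisms of a 2-group fixing every involution is solvable, given the
non-existence of anisotropic invariant quadratic maps for perfect groups.
-/

set_option autoImplicit false
set_option linter.style.haveILetI false
set_option linter.style.longLine false

open Subgroup
open scoped commutatorElement

namespace CfsgLib.OutTwo

universe u

/-- The non-existence of an anisotropic invariant quadratic map for a perfect group. -/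
def NoAniso : Prop :=
  ∀ {D : Type u} [Group D] [Finite D], _root_.commutator D = ⊤ →
    ∀ {W Z : Type u} [AddCommGroup W] [Finite W] [AddCommGroup Z],
      (∀ w : W, w + w = 0) → (∀ z : Z, z + z = 0) →
      ∀ (act : D →* AddMonoid.End W) (q : W → Z) (B : W →+ W →+ Z),
        (∀ v w, q (v + w) = q v + q w + B v w) → (∀ g w, q (act g w) = q w) →
        (∀ w, q w = 0 → w = 0) → (∃ g w, act g w ≠ w) →
        (∀ K : AddSubgroup W, (∀ g, ∀ w ∈ K, act g w ∈ K) → K = ⊥ ∨ K = ⊤) → False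

theorem card_lt {Q : Type*} [Group Q] [Finite Q] {K : Subgroup Q} (h : K ≠ ⊤) :
    Nat.card K < Nat.card Q :=
  lt_of_le_of_ne K.card_le_card_group (fun e => h (Subgroup.card_eq_iff_eq_top K |>.mp e))

theorem sq_mul {Q : Type*} [Group Q] (x y : Q) (hc : ∀ z, x⁻¹ * y * x * y⁻¹ * z = z * (x⁻¹ * y * x * y⁻¹)) :
    (x * y) ^ 2 = x ^ 2 * y ^ 2 * (x⁻¹ * y * x * y⁻¹) := by
  calc (x * y) ^ 2 = x * y * x * y := by rw [pow_two, ← mul_assoc]
    _ = x * x * ((x⁻¹ * y * x * y⁻¹) * (y * y)) := by group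
    _ = x * x * ((y * y) * (x⁻¹ * y * x * y⁻¹)) := by rw [hc (y * y)]
    _ = _ := by rw [pow_two, pow_two]; simp only [mul_assoc]

/-- A perfect group acting on a 2-group and fixing all involutions acts trivially. -/
theorem perfect_fix (hA : NoAniso.{u}) {D : Type u} [Group D] [Finite D]
    (hperf : _root_.commutator D = ⊤) :
    ∀ (n : ℕ) (Q : Type u) [Group Q] [Finite Q], Nat.card Q = n → IsPGroup 2 Q →
      ∀ a : D →* MulAut Q, (∀ d x, x ^ 2 = 1 → a d x = x) → ∀ d x, a d x = x := by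
  intro n
  induction n using Nat.strong_induction_on with
  | _ n ih =>
  intro Q _ _ hn hQ a hinv
  haveI : Fact (Nat.Prime 2) := ⟨Nat.prime_two⟩
  -- proper invariant subgroups are fixed
  have hfix : ∀ K : Subgroup Q, K ≠ ⊤ → (∀ d, ∀ x ∈ K, a d x ∈ K) → ∀ d, ∀ x ∈ K, a d x = x := by
    intro K hK hKi d x hx
    have hst : ∀ e, a e ∈ stab K := fun e y => ⟨fun hy => by
      have := hKi e⁻¹ _ hy
      rwa [map_inv, MulAut.inv_apply_self] at this, hKi e y⟩
    have h := ih (Nat.card K) (hn ▸ card_lt hK) K rfl (hQ.to_subgroup K)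
      ((resAut K).comp (a.codRestrict (stab K) hst))
      (fun e y hy => Subtype.ext (hinv e y (congrArg Subtype.val hy))) d ⟨x, hx⟩
    exact congrArg Subtype.val h
  let C : Subgroup Q :=
    { carrier := {x | ∀ d, a d x = x}
      one_mem' := fun d => map_one _
      mul_mem' := fun {x y} hx hy d => by rw [map_mul, hx d, hy d]
      inv_mem' := fun {x} hx d => by rw [map_inv, hx d] }
  by_contra hne
  have hCtop : C ≠ ⊤ := fun h => hne fun d x => (h ▸ mem_top x : x ∈ C) d
  haveI : Nontrivial Q := by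
    by_contra h
    rw [not_nontrivial_iff_subsingleton] at h
    exact hne fun d x => Subsingleton.elim _ _
  -- the Frattini subgroup is fixed
  have hfr : frattini Q ≤ C := fun x hx d => by
    refine hfix (frattini Q) (fun h => ?_) (fun e y hy => ?_) d x hx
    · obtain ⟨M, hM, -⟩ := (IsCoatomic.eq_top_or_exists_le_coatom (⊥ : Subgroup Q)).resolve_left bot_ne_top
      exact hM.1 (top_le_iff.mp (h ▸ frattini_le_coatom hM))
    · exact frattini_le_comap_frattini_of_surjective (φ := (a e).toMonoidHom) (a e).surjective hy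
  have hsq : ∀ x : Q, x ^ 2 ∈ C := fun x => hfr (CfsgLib.OddOrder.pow_mem_frattini_of_isPGroup hQ x)
  have hcom : ∀ x y : Q, x * y * x⁻¹ * y⁻¹ ∈ frattini Q := fun x y =>
    CfsgLib.OddOrder.commutator_le_frattini_of_isPGroup hQ
      (Subgroup.commutator_mem_commutator (mem_top x) (mem_top y))
  -- `[Q, D]` is everything
  let L : Subgroup Q := closure (Set.range fun p : D × Q => a p.1 p.2 * p.2⁻¹)
  have hLtop : L = ⊤ := by
    by_contra hL
    have hgen : ∀ d x, a d x * x⁻¹ ∈ L := fun d x => subset_closure ⟨(d, x), rfl⟩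
    have hLn : ∀ y : Q, ∀ z ∈ L, y * z * y⁻¹ ∈ L := by
      intro y z hz
      induction hz using closure_induction with
      | mem z hz =>
        obtain ⟨⟨d, x⟩, rfl⟩ := hz
        have e : y * (a d x * x⁻¹) * y⁻¹ = (a d y * y⁻¹)⁻¹ * (a d (y * x) * (y * x)⁻¹) := by
          rw [map_mul]; group
        rw [e]
        exact mul_mem (inv_mem (hgen d y)) (hgen d (y * x))
      | one => simp
      | mul z w _ _ hz hw =>
        have e : y * (z * w) * y⁻¹ = (y * z * y⁻¹) * (y * w * y⁻¹) := by group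
        rw [e]; exact mul_mem hz hw
      | inv z _ hz =>
        have e : y * z⁻¹ * y⁻¹ = (y * z * y⁻¹)⁻¹ := by group
        rw [e]; exact inv_mem hz
    have hLi : ∀ d, ∀ z ∈ L, a d z ∈ L := fun d z hz => by
      have := mul_mem (hgen d z) hz
      rwa [inv_mul_cancel_right] at this
    have hLf := hfix L hL hLi
    apply hne
    intro d x
    -- the displacement lies in the centre of `L`
    have hcen : ∀ e : D, ∀ z ∈ L, (a e x * x⁻¹) * z = z * (a e x * x⁻¹) := by
      intro e z hz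
      have h1 := hLn x⁻¹ z hz
      rw [inv_inv] at h1
      have h2 := hLf e _ h1
      rw [map_mul, map_mul, map_inv, hLf e z hz] at h2
      calc (a e x * x⁻¹) * z = a e x * (x⁻¹ * z * x) * x⁻¹ := by group
        _ = a e x * ((a e x)⁻¹ * z * a e x) * x⁻¹ := by rw [h2]
        _ = _ := by group
    let A : Subgroup Q := L ⊓ centralizer (L : Set Q)
    have hmem : ∀ e, a e x * x⁻¹ ∈ A := fun e =>
      ⟨hgen e x, mem_centralizer_iff.mpr fun z hz => (hcen e z hz).symm⟩
    let cc : D →* ↥A :=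
      { toFun := fun e => ⟨a e x * x⁻¹, hmem e⟩
        map_one' := Subtype.ext (by simp)
        map_mul' := fun e f => Subtype.ext (by
          show a (e * f) x * x⁻¹ = (a e x * x⁻¹) * (a f x * x⁻¹)
          have hfx : a f x = (a f x * x⁻¹) * x := by group
          rw [map_mul, MulAut.mul_apply]
          conv_lhs => rw [hfx, map_mul, hLf e _ (hgen f x)]
          rw [mul_assoc, (hcen e _ (hgen f x)).symm]) }
    have hab : ∀ p q : ↥A, p * q = q * p := fun p q =>
      Subtype.ext (mem_centralizer_iff.mp q.2.2 _ p.2.1)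
    have hker : _root_.commutator D ≤ cc.ker := by
      rw [_root_.commutator_def, Subgroup.commutator_le]
      intro p _ q _
      rw [MonoidHom.mem_ker, map_commutatorElement, commutatorElement_eq_one_iff_commute]
      exact hab _ _
    have h1 : cc d = 1 := hker (hperf ▸ mem_top d)
    exact mul_inv_eq_one.mp (congrArg Subtype.val h1)
  -- `C` is central
  have hgenc : ∀ c : Q, (∀ d, ∀ x : Q, Commute (x⁻¹ * a d x) c) → ∀ x : Q, Commute x c := by
    intro c hc x
    have hx : x ∈ L := hLtop ▸ mem_top x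
    have hLc : L ≤ centralizer ({c} : Set Q) := by
      rw [closure_le]
      rintro _ ⟨⟨d, y⟩, rfl⟩
      rw [SetLike.mem_coe, mem_centralizer_singleton_iff]
      have h := (hc d y⁻¹).inv_left
      have e : (y⁻¹⁻¹ * a d y⁻¹)⁻¹ = a d y * y⁻¹ := by rw [map_inv]; group
      rw [e] at h
      exact h.eq
    exact mem_centralizer_singleton_iff.mp (hLc hx)
  have hfz : ∀ f ∈ frattini Q, ∀ x : Q, Commute x f := by
    intro f hf
    apply hgenc f
    intro d x
    have h1 : a d (x * f * x⁻¹) = x * f * x⁻¹ := hfr ((inferInstance : (frattini Q).Normal).conj_mem f hf x) d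
    rw [map_mul, map_mul, map_inv, hfr hf d] at h1
    show x⁻¹ * a d x * f = f * (x⁻¹ * a d x)
    calc x⁻¹ * a d x * f = x⁻¹ * (a d x * f * (a d x)⁻¹) * a d x := by group
      _ = x⁻¹ * (x * f * x⁻¹) * a d x := by rw [h1]
      _ = _ := by group
  have hCz : ∀ c ∈ C, ∀ x : Q, Commute x c := by
    intro c hc
    apply hgenc c
    intro d x
    have h1 : a d (x * c * x⁻¹ * c⁻¹) = x * c * x⁻¹ * c⁻¹ := hfr (hcom x c) d
    rw [map_mul, map_mul, map_mul, map_inv, map_inv, hc d] at h1
    show x⁻¹ * a d x * c = c * (x⁻¹ * a d x)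
    calc x⁻¹ * a d x * c = x⁻¹ * (a d x * c * (a d x)⁻¹ * c⁻¹) * c * a d x := by group
      _ = x⁻¹ * (x * c * x⁻¹ * c⁻¹) * c * a d x := by rw [h1]
      _ = _ := by group
  haveI hCn : C.Normal := ⟨fun c hc y => by
    rw [(hCz c hc y).eq, mul_inv_cancel_right]; exact hc⟩
  -- the module
  letI : CommGroup (Q ⧸ C) :=
    { (inferInstance : Group (Q ⧸ C)) with
      mul_comm := fun p q => by
        obtain ⟨x, rfl⟩ := QuotientGroup.mk_surjective p
        obtain ⟨y, rfl⟩ := QuotientGroup.mk_surjective q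
        rw [← QuotientGroup.mk_mul, ← QuotientGroup.mk_mul, QuotientGroup.eq]
        have := hfr (hcom y⁻¹ x⁻¹)
        rw [inv_inv, inv_inv] at this
        rwa [mul_inv_rev, ← mul_assoc] }
  letI : CommGroup ↥C :=
    { (inferInstance : Group ↥C) with mul_comm := fun p q => Subtype.ext (hCz q q.2 p).eq }
  let Sq : Subgroup ↥C := (powMonoidHom 2 : ↥C →* ↥C).range
  let F : Q → Additive (↥C ⧸ Sq) := fun x => Additive.ofMul (QuotientGroup.mk ⟨x ^ 2, hsq x⟩)
  have hbc : ∀ x y : Q, x⁻¹ * y * x * y⁻¹ ∈ frattini Q := fun x y => by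
    have := hcom x⁻¹ y; rwa [inv_inv] at this
  let b : Q → Q → Additive (↥C ⧸ Sq) := fun x y =>
    Additive.ofMul (QuotientGroup.mk ⟨x⁻¹ * y * x * y⁻¹, hfr (hbc x y)⟩)
  have hFmul : ∀ x y, F (x * y) = F x + F y + b x y := by
    intro x y
    show Additive.ofMul (QuotientGroup.mk _) = Additive.ofMul (QuotientGroup.mk (_ * _ * _))
    exact congrArg _ (congrArg _ (Subtype.ext (sq_mul x y fun z => (hfz _ (hbc x y) z).eq.symm)))
  have hFc : ∀ c ∈ C, F c = 0 := by
    intro c hc
    show (QuotientGroup.mk _ : ↥C ⧸ Sq) = 1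
    exact (QuotientGroup.eq_one_iff (N := Sq) _).mpr ⟨⟨c, hc⟩, Subtype.ext rfl⟩
  have hbl : ∀ x x' y, b (x * x') y = b x y + b x' y := by
    intro x x' y
    show Additive.ofMul (QuotientGroup.mk _) = Additive.ofMul (QuotientGroup.mk (_ * _))
    refine congrArg _ (congrArg _ (Subtype.ext ?_))
    show (x * x')⁻¹ * y * (x * x') * y⁻¹ = (x⁻¹ * y * x * y⁻¹) * (x'⁻¹ * y * x' * y⁻¹)
    calc (x * x')⁻¹ * y * (x * x') * y⁻¹ = x'⁻¹ * ((x⁻¹ * y * x * y⁻¹) * (y * x' * y⁻¹)) := by group
      _ = (x⁻¹ * y * x * y⁻¹) * x'⁻¹ * (y * x' * y⁻¹) := by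
        rw [← mul_assoc, (hfz _ (hbc x y) x'⁻¹).eq]
      _ = _ := by group
  have hbr : ∀ x y y', b x (y * y') = b x y + b x y' := by
    intro x y y'
    show Additive.ofMul (QuotientGroup.mk _) = Additive.ofMul (QuotientGroup.mk (_ * _))
    refine congrArg _ (congrArg _ (Subtype.ext ?_))
    show x⁻¹ * (y * y') * x * (y * y')⁻¹ = (x⁻¹ * y * x * y⁻¹) * (x⁻¹ * y' * x * y'⁻¹)
    calc x⁻¹ * (y * y') * x * (y * y')⁻¹ = (x⁻¹ * y * x) * ((x⁻¹ * y' * x * y'⁻¹) * y⁻¹) := by group
      _ = (x⁻¹ * y * x) * (y⁻¹ * (x⁻¹ * y' * x * y'⁻¹)) := by rw [(hfz _ (hbc x y') y⁻¹).eq]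
      _ = _ := by group
  have hbc1 : ∀ c ∈ C, ∀ y, b c y = 0 ∧ b y c = 0 := by
    intro c hc y
    constructor
    · show (QuotientGroup.mk _ : ↥C ⧸ Sq) = 1
      refine (QuotientGroup.eq_one_iff (N := Sq) _).mpr ⟨1, Subtype.ext ?_⟩
      show (1 : Q) ^ 2 = c⁻¹ * y * c * y⁻¹
      rw [one_pow, mul_assoc c⁻¹, (hCz c hc y).eq]; group
    · show (QuotientGroup.mk _ : ↥C ⧸ Sq) = 1
      refine (QuotientGroup.eq_one_iff (N := Sq) _).mpr ⟨1, Subtype.ext ?_⟩
      show (1 : Q) ^ 2 = y⁻¹ * c * y * c⁻¹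
      rw [one_pow, mul_assoc y⁻¹, ← (hCz c hc y).eq]; group
  let W := Additive (Q ⧸ C)
  have hout : ∀ x : Q, ∃ c ∈ C, (QuotientGroup.mk x : Q ⧸ C).out = x * c := fun x =>
    ⟨_, QuotientGroup.eq.mp ((QuotientGroup.mk x : Q ⧸ C).out_eq).symm, (mul_inv_cancel_left x _).symm⟩
  let q : W → Additive (↥C ⧸ Sq) := fun w => F (Additive.toMul w).out
  have hqmk : ∀ x : Q, q (Additive.ofMul (QuotientGroup.mk x)) = F x := by
    intro x
    obtain ⟨c, hc, e⟩ := hout x
    show F (QuotientGroup.mk x : Q ⧸ C).out = F x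
    rw [e, hFmul, hFc c hc, (hbc1 c hc x).2, add_zero, add_zero]
  let Bo : W → W → Additive (↥C ⧸ Sq) := fun v w => b (Additive.toMul v).out (Additive.toMul w).out
  have hBmk : ∀ x y : Q, Bo (Additive.ofMul (QuotientGroup.mk x)) (Additive.ofMul (QuotientGroup.mk y)) = b x y := by
    intro x y
    obtain ⟨c, hc, e⟩ := hout x
    obtain ⟨c', hc', e'⟩ := hout y
    show b (QuotientGroup.mk x : Q ⧸ C).out (QuotientGroup.mk y : Q ⧸ C).out = b x y
    rw [e, e', hbl, (hbc1 c hc _).1, add_zero, hbr, (hbc1 c' hc' x).2, add_zero]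
  have hsurj : ∀ w : W, ∃ x : Q, Additive.ofMul (QuotientGroup.mk x) = w := fun w =>
    ⟨(Additive.toMul w).out, (Additive.toMul w).out_eq⟩
  let B : W →+ W →+ Additive (↥C ⧸ Sq) :=
    AddMonoidHom.mk' (fun v => AddMonoidHom.mk' (Bo v) (fun w w' => by
      obtain ⟨x, rfl⟩ := hsurj v; obtain ⟨y, rfl⟩ := hsurj w; obtain ⟨y', rfl⟩ := hsurj w'
      rw [← ofMul_mul, ← QuotientGroup.mk_mul, hBmk, hBmk, hBmk, hbr]))
      (fun v v' => AddMonoidHom.ext fun w => by
        obtain ⟨x, rfl⟩ := hsurj v; obtain ⟨x', rfl⟩ := hsurj v'; obtain ⟨y, rfl⟩ := hsurj w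
        show Bo _ _ = Bo _ _ + Bo _ _
        rw [← ofMul_mul, ← QuotientGroup.mk_mul, hBmk, hBmk, hBmk, hbl])
  have hCi : ∀ d, C ≤ C.comap (a d).toMonoidHom := fun d c hc => by
    show a d c ∈ C
    rw [hc d]; exact hc
  let act : D →* AddMonoid.End W :=
    { toFun := fun d => MonoidHom.toAdditive (QuotientGroup.map C C (a d).toMonoidHom (hCi d))
      map_one' := by
        refine AddMonoidHom.ext fun w => ?_
        obtain ⟨x, rfl⟩ := hsurj w
        show Additive.ofMul (QuotientGroup.mk ((a 1) x)) = _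
        rw [map_one]; rfl
      map_mul' := fun d e => by
        refine AddMonoidHom.ext fun w => ?_
        obtain ⟨x, rfl⟩ := hsurj w
        show Additive.ofMul (QuotientGroup.mk ((a (d * e)) x)) = _
        rw [map_mul]; rfl }
  have hactmk : ∀ d x, act d (Additive.ofMul (QuotientGroup.mk x)) = Additive.ofMul (QuotientGroup.mk (a d x)) :=
    fun d x => rfl
  refine hA hperf (W := W) (Z := Additive (↥C ⧸ Sq)) ?_ ?_ act q B ?_ ?_ ?_ ?_ ?_
  · intro w
    obtain ⟨x, rfl⟩ := hsurj w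
    rw [← ofMul_mul, ← QuotientGroup.mk_mul, ← pow_two, (QuotientGroup.eq_one_iff _).mpr (hsq x)]
    rfl
  · intro z
    obtain ⟨c, hc⟩ := QuotientGroup.mk_surjective (Additive.toMul z)
    show Additive.toMul z * Additive.toMul z = 1
    rw [← hc, ← QuotientGroup.mk_mul, QuotientGroup.eq_one_iff]
    exact ⟨c, pow_two c⟩
  · intro v w
    obtain ⟨x, rfl⟩ := hsurj v; obtain ⟨y, rfl⟩ := hsurj w
    rw [← ofMul_mul, ← QuotientGroup.mk_mul, hqmk, hqmk, hqmk]
    exact (hFmul x y).trans (congrArg _ (hBmk x y).symm)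
  · intro d w
    obtain ⟨x, rfl⟩ := hsurj w
    rw [hactmk, hqmk, hqmk]
    show Additive.ofMul (QuotientGroup.mk _) = Additive.ofMul (QuotientGroup.mk _)
    refine congrArg _ (congrArg _ (Subtype.ext ?_))
    show (a d x) ^ 2 = x ^ 2
    rw [← map_pow, hsq x d]
  · intro w hw
    obtain ⟨x, rfl⟩ := hsurj w
    rw [hqmk] at hw
    obtain ⟨e, he⟩ := (QuotientGroup.eq_one_iff _).mp (hw : (QuotientGroup.mk _ : ↥C ⧸ Sq) = 1)
    have he' : (e : Q) ^ 2 = x ^ 2 := congrArg Subtype.val he
    have hx : x * (e : Q)⁻¹ ∈ C := fun d => hinv d _ (by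
      rw [(hCz _ (inv_mem e.2) x).mul_pow, inv_pow, he', mul_inv_cancel])
    have : x ∈ C := by simpa using mul_mem hx e.2
    exact ((QuotientGroup.eq_one_iff _).mpr this :)
  · by_contra hall
    push Not at hall
    apply hCtop
    rw [← top_le_iff, ← hLtop, closure_le]
    rintro _ ⟨⟨d, x⟩, rfl⟩
    have h1 : (QuotientGroup.mk (a d x) : Q ⧸ C) = QuotientGroup.mk x := hall d (Additive.ofMul (QuotientGroup.mk x))
    have h2 := QuotientGroup.eq.mp h1.symm
    have h3 := hCn.conj_mem _ h2 x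
    show a d x * x⁻¹ ∈ C
    rwa [mul_inv_cancel_left] at h3
  · intro K hK
    let K' : Subgroup Q := (AddSubgroup.toSubgroup' K).comap (QuotientGroup.mk' C)
    have hK' : ∀ x, x ∈ K' ↔ Additive.ofMul (QuotientGroup.mk x : Q ⧸ C) ∈ K := fun x => Iff.rfl
    by_cases h : K' = ⊤
    · right
      rw [eq_top_iff]
      intro w _
      obtain ⟨x, rfl⟩ := hsurj w
      exact (hK' x).mp (h ▸ mem_top x)
    · left
      rw [eq_bot_iff]
      intro w hw
      obtain ⟨x, rfl⟩ := hsurj w
      have hx : x ∈ C := fun d => hfix K' h (fun e y hy => hK e _ hy) d x hw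
      exact ((QuotientGroup.eq_one_iff _).mpr hx :)

/-- A group of automorphisms of a 2-group fixing every involution is solvable. -/
theorem isSolvable_of_fix (hA : NoAniso.{u}) {Q : Type u} [Group Q] [Finite Q] (hQ : IsPGroup 2 Q) :
    ∀ (n : ℕ) (D : Type u) [Group D] [Finite D], Nat.card D = n → ∀ a : D →* MulAut Q,
      Function.Injective a → (∀ d x, x ^ 2 = 1 → a d x = x) → Group.IsSolvable D := by
  intro n
  induction n using Nat.strong_induction_on with
  | _ n ih =>
  intro D _ _ hn a hinj hinv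
  by_cases hperf : _root_.commutator D = ⊤
  · have htriv : ∀ d : D, d = 1 := fun d => hinj (by
      rw [map_one]
      exact MulEquiv.ext fun x => perfect_fix hA hperf _ Q rfl hQ a hinv d x)
    exact Group.isSolvable_of_comm fun d e => by rw [htriv d, htriv e]
  · haveI : Group.IsSolvable ↥(_root_.commutator D) :=
      ih _ (hn ▸ card_lt hperf) _ rfl (a.comp (_root_.commutator D).subtype)
        (hinj.comp Subtype.val_injective) (fun d x hx => hinv d x hx)
    haveI : Group.IsSolvable (D ⧸ _root_.commutator D) := Group.isSolvable_of_comm fun p q => by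
      obtain ⟨x, rfl⟩ := QuotientGroup.mk_surjective p
      obtain ⟨y, rfl⟩ := QuotientGroup.mk_surjective q
      rw [← QuotientGroup.mk_mul, ← QuotientGroup.mk_mul, QuotientGroup.eq]
      have h : ⁅y⁻¹, x⁻¹⁆ ∈ _root_.commutator D :=
        Subgroup.commutator_mem_commutator (mem_top _) (mem_top _)
      simpa [commutatorElement_def, mul_assoc] using h
    exact Group.isSolvable_of_ker_le_range (_root_.commutator D).subtype
      (QuotientGroup.mk' (_root_.commutator D)) (by simp)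

end CfsgLib.OutTwo
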