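import Cfsg.Agent.Lib.OutTwo.Main

/-!
`Out G` is solvable: commuting fused involutions in a Sylow 2-subgroup.
-/

set_option autoImplicit false
set_option linter.style.haveILetI false
set_option linter.style.longLine false
set_option maxHeartbeats 1000000

open Subgroup
open scoped Pointwise commutatorElement

namespace CfsgLib.OutTwo

universe u

variable {G : Type u} [Group G] [Finite G] [IsSimpleGroup G] (S : Sylow 2 G)

theorem case_involutions (hS1 : (S : Subgroup G) ≠ ⊥)
    (h : (∀ s ∈ S, ∀ t ∈ S, orderOf s = 2 → orderOf t = 2 → s * t = t * s) ∧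
      (∀ s ∈ S, ∀ t ∈ S, orderOf s = 2 → orderOf t = 2 → ∃ g : G, g * s * g⁻¹ = t)) :
    Group.IsSolvable (Cfsg.Out G) := by
  obtain ⟨hcomm, hconj⟩ := h
  haveI : Fact (Nat.Prime 2) := ⟨Nat.prime_two⟩
  have hord : ∀ x : G, x * x = 1 → x ≠ 1 → orderOf x = 2 := fun x hx hx1 =>
    orderOf_eq_prime (by rw [pow_two]; exact hx) hx1
  have hc : ∀ x ∈ (S : Subgroup G), ∀ y ∈ (S : Subgroup G), x * x = 1 → y * y = 1 → x * y = y * x := by
    intro x hx y hy hx2 hy2
    rcases eq_or_ne x 1 with rfl | hx1
    · simp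
    rcases eq_or_ne y 1 with rfl | hy1
    · simp
    exact hcomm x hx y hy (hord x hx2 hx1) (hord y hy2 hy1)
  let E : Subgroup G :=
    { carrier := {x | x ∈ (S : Subgroup G) ∧ x * x = 1}
      one_mem' := ⟨one_mem _, one_mul 1⟩
      mul_mem' := fun {x y} hx hy => ⟨mul_mem hx.1 hy.1, by
        rw [mul_assoc, ← mul_assoc y, ← hc x hx.1 y hy.1 hx.2 hy.2, mul_assoc x, hy.2, mul_one, hx.2]⟩
      inv_mem' := fun {x} hx => by
        show x⁻¹ ∈ (S : Subgroup G) ∧ x⁻¹ * x⁻¹ = 1
        exact ⟨inv_mem hx.1, by rw [← mul_inv_rev, hx.2, inv_one]⟩ }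
  have hEab : IsMulCommutative ↥E := ⟨⟨fun x y => Subtype.ext (hc x x.2.1 y y.2.1 x.2.2 y.2.2)⟩⟩
  have hsc : Cfsg.IsStronglyClosed E (S : Subgroup G) :=
    ⟨fun x hx => hx.1, fun x hx g hg => ⟨hg, by
      rw [show g * x * g⁻¹ * (g * x * g⁻¹) = g * (x * x) * g⁻¹ by group, hx.2, mul_one, mul_inv_cancel]⟩⟩
  letI : CommGroup ↥E :=
    { (inferInstance : Group ↥E) with mul_comm := fun x y => Subtype.ext (hc x x.2.1 y y.2.1 x.2.2 y.2.2) }
  have hE2 : ∀ x : ↥E, x ^ 2 = 1 := fun x => Subtype.ext (by rw [SubmonoidClass.coe_pow, pow_two]; exact x.2.2)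
  have hle : ∀ φ : stab (S : Subgroup G), (φ : MulAut G) ∈ stab E := fun φ x => by
    show (_ ∧ _) ↔ (_ ∧ _)
    rw [φ.2 x, ← map_mul, EmbeddingLike.map_eq_one_iff]
  let incl : ↥(stab (S : Subgroup G)) →* ↥(stab E) := (stab (S : Subgroup G)).subtype.codRestrict _ hle
  let f : ↥(stab (S : Subgroup G)) →* MulAut ↥E := (resAut E).comp incl
  -- the kernel is solvable
  let Γ : Subgroup (MulAut ↥(S : Subgroup G)) :=
    { carrier := {γ | ∀ x, x ^ 2 = 1 → γ x = x}
      one_mem' := fun x _ => rfl
      mul_mem' := fun {a b} ha hb x hx => by rw [MulAut.mul_apply, hb x hx, ha x hx]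
      inv_mem' := fun {a} ha x hx => by
        conv_lhs => rw [← ha x hx]
        rw [MulAut.inv_apply_self] }
  have hΓ : Group.IsSolvable ↥Γ :=
    isSolvable_of_fix noAniso S.isPGroup' _ ↥Γ rfl Γ.subtype Subtype.val_injective (fun d x hx => d.2 x hx)
  haveI : Group.IsSolvable ↥f.ker := by
    let g := resAut (S : Subgroup G)
    let i : ↥g.ker →* ↥f.ker := g.ker.subtype.codRestrict f.ker fun φ => by
      refine MulEquiv.ext fun x => Subtype.ext ?_
      have h1 : g (φ : stab (S : Subgroup G)) = 1 := φ.2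
      have h3 := DFunLike.congr_fun h1 (⟨(x : G), x.2.1⟩ : ↥(S : Subgroup G))
      have h2 : ((φ : stab (S : Subgroup G)) : MulAut G) (x : G) = (x : G) :=
        congrArg Subtype.val h3
      exact h2
    let k : ↥f.ker →* ↥Γ := (g.comp f.ker.subtype).codRestrict Γ fun φ x hx => by
      have hxE : (x : G) ∈ E := ⟨x.2, by rw [← pow_two]; exact congrArg Subtype.val hx⟩
      exact Subtype.ext (congrArg Subtype.val (DFunLike.congr_fun (show f (φ : stab (S : Subgroup G)) = 1 from φ.2) ⟨x, hxE⟩) :)
    haveI := hΓ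
    haveI : Group.IsSolvable ↥g.ker :=
      isSolvable_ker_res (fun X _ _ h => CfsgLib.FT.solvable_of_odd h) (oddCore_trivial S hS1) S
    exact Group.isSolvable_of_ker_le_range i k (fun φ hφ =>
      ⟨⟨φ, congrArg Subtype.val (show k φ = 1 from hφ)⟩, Subtype.ext rfl⟩)
  refine out_isSolvable_of_hom S f fun N hN hNdef => ?_
  haveI := hN
  -- `Y` transitive and normal in `X`
  let R := (resAut E).rangeRestrict
  let Y : Subgroup ↥(resAut E).range := (innIn (stab E)).map R
  haveI : Y.Normal := Subgroup.Normal.map inferInstance _ (resAut E).rangeRestrict_surjective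
  haveI : Group.IsSolvable (↥(resAut E).range ⧸ Y) := by
    refine quotient_transitive hE2 (resAut E).range.subtype Subtype.val_injective Y ?_
    intro a b ha hb
    have ha' : orderOf (a : G) = 2 := hord a a.2.2 (fun e => ha (Subtype.ext e))
    have hb' : orderOf (b : G) = 2 := hord b b.2.2 (fun e => hb (Subtype.ext e))
    obtain ⟨g, hg⟩ := hconj a a.2.1 b b.2.1 ha' hb'
    have hB : zpowers (a : G) ≤ (S : Subgroup G) := zpowers_le.mpr a.2.1
    have hgB : CfsgLib.LocalEven.cj g (zpowers (a : G)) ≤ (S : Subgroup G) := by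
      rw [Subgroup.map_le_iff_le_comap, zpowers_le, Subgroup.mem_comap]
      show g * a * g⁻¹ ∈ (S : Subgroup G)
      rw [hg]; exact b.2.1
    obtain ⟨n, hn, hagree⟩ := CfsgLib.LocalEven.strong_fusion S hEab hsc hB hgB
    refine ⟨R ⟨MulAut.conj n, conj_mem_stab hn⟩, ⟨_, ⟨n, rfl⟩, rfl⟩, Subtype.ext ?_⟩
    show n * a * n⁻¹ = b
    rw [← hagree a (mem_zpowers _), hg]
  -- compare
  have hrange : f.range ≤ (resAut E).range := by
    rintro _ ⟨φ, rfl⟩; exact ⟨incl φ, rfl⟩
  let emb : ↥f.range →* ↥(resAut E).range := Subgroup.inclusion hrange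
  have hNY : N = Y.comap emb := by
    rw [hNdef]
    apply le_antisymm
    · rintro _ ⟨φ, hφ, rfl⟩
      exact ⟨incl φ, hφ, Subtype.ext rfl⟩
    · intro z hz
      obtain ⟨φ, ⟨g, hg⟩, he⟩ := hz
      obtain ⟨α, hα⟩ := z.2
      have hgN : g ∈ normalizer (E : Set G) := mem_normalizer_of_conj_mem_stab (hg ▸ φ.2)
      have hact : ∀ e ∈ E, g * e * g⁻¹ = (α : MulAut G) e := by
        intro e heE
        have h1 : resAut E φ = (z : MulAut ↥E) := congrArg Subtype.val he
        have h2 := congrArg Subtype.val (DFunLike.congr_fun (h1.trans hα.symm) ⟨e, heE⟩)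
        have h3 : (φ : MulAut G) e = (α : MulAut G) e := h2
        rw [← h3]
        exact DFunLike.congr_fun hg e
      let Ne := normalizer (E : Set G)
      have hSN : (S : Subgroup G) ≤ Ne := fun s hs => mem_normalizer_iff.mpr fun x => by
        show (_ ∧ _) ↔ (_ ∧ _)
        rw [show s * x * s⁻¹ * (s * x * s⁻¹) = s * (x * x) * s⁻¹ by group]
        constructor
        · rintro ⟨h1, h2⟩
          exact ⟨mul_mem (mul_mem hs h1) (inv_mem hs), by rw [h2, mul_one, mul_inv_cancel]⟩
        · rintro ⟨h1, h2⟩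
          refine ⟨?_, ?_⟩
          · have := mul_mem (mul_mem (inv_mem hs) h1) hs
            simpa [mul_assoc] using this
          · have h3 := mul_inv_eq_one.mp h2
            exact mul_left_cancel (h3.trans (mul_one s).symm)
      let K := centralizer (E : Set G) ⊔ (S : Subgroup G)
      -- `g` moves `S` inside `C(E) S`
      have hgS : CfsgLib.LocalEven.cj g (S : Subgroup G) ≤ K := by
        rintro _ ⟨s, hs, rfl⟩
        have hαs : (α : MulAut G) s ∈ (S : Subgroup G) := (α.2 s).mpr hs
        show g * s * g⁻¹ ∈ K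
        have hcm : g * s * g⁻¹ * ((α : MulAut G) s)⁻¹ ∈ centralizer (E : Set G) := by
          rw [mem_centralizer_iff]
          intro e heE
          have heS : ((α : MulAut G) s)⁻¹ * e * (α : MulAut G) s ∈ E := by
            have := (mem_normalizer_iff.mp (hSN (inv_mem hαs)) e).mp heE
            rwa [inv_inv] at this
          set e' := ((α : MulAut G) s)⁻¹ * e * (α : MulAut G) s with he'
          have heG : g⁻¹ * e' * g ∈ E := by
            have := (mem_normalizer_iff.mp (inv_mem hgN) e').mp heS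
            rwa [inv_inv] at this
          set d := g⁻¹ * e' * g with hd
          have hsd : s * d * s⁻¹ ∈ E := (mem_normalizer_iff.mp (hSN hs) d).mp heG
          have hdα : (α : MulAut G) d = e' := by
            rw [← hact d heG, hd]; group
          have h4 := hact _ hsd
          rw [map_mul, map_mul, map_inv, hdα, he'] at h4
          have h5 : g * (s * d * s⁻¹) * g⁻¹ = e := by rw [h4]; group
          rw [hd, he'] at h5
          set t := (α : MulAut G) s
          calc e * (g * s * g⁻¹ * t⁻¹) = g * (s * (g⁻¹ * (t⁻¹ * e * t) * g) * s⁻¹) * g⁻¹ * (g * s * g⁻¹ * t⁻¹) := by rw [h5]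
            _ = _ := by group
        have := mul_mem (Subgroup.mem_sup_left (T := (S : Subgroup G)) hcm)
          (Subgroup.mem_sup_right (S := centralizer (E : Set G)) hαs)
        rwa [inv_mul_cancel_right] at this
      let S₁ : Sylow 2 ↥K := S.subtype le_sup_right
      let S₂ : Sylow 2 ↥K := (g • S).subtype (by
        rw [Sylow.coe_subgroup_smul]; exact hgS)
      obtain ⟨k, hk⟩ := MulAction.exists_smul_eq ↥K S₂ S₁
      have hkS : (k : G) * g ∈ normalizer ((S : Subgroup G) : Set G) := by
        simp_rw [S₁, S₂, Sylow.smul_subtype, Subgroup.smul_def, smul_smul] at hk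
        exact Sylow.smul_eq_iff_mem_normalizer.mp (Sylow.subtype_injective hk)
      -- split `k` and conclude
      have hk2 : (k : G) ∈ ((centralizer (E : Set G) : Subgroup G) : Set G) * ((S : Subgroup G) : Set G) := by
        have hnorm : (S : Subgroup G) ≤ normalizer ((centralizer (E : Set G) : Subgroup G) : Set G) := by
          intro s hs
          rw [mem_normalizer_iff]
          intro x
          have hse : ∀ e ∈ E, s⁻¹ * e * s ∈ E ∧ s * e * s⁻¹ ∈ E := fun e he =>
            ⟨by have := (mem_normalizer_iff.mp (hSN (inv_mem hs)) e).mp he; rwa [inv_inv] at this,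
              (mem_normalizer_iff.mp (hSN hs) e).mp he⟩
          simp only [mem_centralizer_iff]
          constructor
          · intro hx e he
            have h1 := hx _ (hse e he).1
            calc e * (s * x * s⁻¹) = s * ((s⁻¹ * e * s) * x) * s⁻¹ := by group
              _ = s * (x * (s⁻¹ * e * s)) * s⁻¹ := by rw [h1]
              _ = _ := by group
          · intro hx e he
            have h1 := hx _ (hse e he).2
            calc e * x = s⁻¹ * ((s * e * s⁻¹) * (s * x * s⁻¹)) * s := by group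
              _ = s⁻¹ * ((s * x * s⁻¹) * (s * e * s⁻¹)) * s := by rw [h1]
              _ = _ := by group
        rw [← Subgroup.coe_mul_of_right_le_normalizer_left _ _ hnorm]
        exact k.2
      obtain ⟨c, hcC, s, hsS, hcs⟩ := hk2
      have hsg : s * g ∈ normalizer (E : Set G) := mul_mem (hSN hsS) hgN
      have hw : s⁻¹ * ((k : G) * g) ∈ normalizer ((S : Subgroup G) : Set G) :=
        mul_mem (inv_mem (Subgroup.le_normalizer hsS)) hkS
      refine ⟨⟨MulAut.conj (s⁻¹ * ((k : G) * g)), conj_mem_stab hw⟩, ⟨_, rfl⟩, Subtype.ext ?_⟩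
      refine MulEquiv.ext fun e => Subtype.ext ?_
      show s⁻¹ * ((k : G) * g) * e * (s⁻¹ * ((k : G) * g))⁻¹ = ((z : MulAut ↥E) e : G)
      rw [← show resAut E φ = (z : MulAut ↥E) from congrArg Subtype.val he, resAut_apply,
        show (φ : MulAut G) = MulAut.conj g from hg.symm]
      show _ = g * e * g⁻¹
      rw [← hcs]
      have hge : g * (e : G) * g⁻¹ ∈ E := (mem_normalizer_iff.mp hgN _).mp e.2
      have hsge : s * (g * e * g⁻¹) * s⁻¹ ∈ E := (mem_normalizer_iff.mp (hSN hsS) _).mp hge
      have hcc := mem_centralizer_iff.mp hcC _ hsge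
      calc s⁻¹ * ((c * s) * g) * e * (s⁻¹ * ((c * s) * g))⁻¹
          = s⁻¹ * (c * (s * (g * e * g⁻¹) * s⁻¹)) * c⁻¹ * s := by group
        _ = s⁻¹ * ((s * (g * e * g⁻¹) * s⁻¹) * c) * c⁻¹ * s := by rw [hcc]
        _ = _ := by group
  haveI : (Y.comap emb).Normal := inferInstance
  haveI := hN
  have hinj : Function.Injective (QuotientGroup.map N Y emb (le_of_eq hNY)) := by
    rw [← MonoidHom.ker_eq_bot_iff, eq_bot_iff]
    intro q hq
    obtain ⟨z, rfl⟩ := QuotientGroup.mk_surjective q
    have : emb z ∈ Y := (QuotientGroup.eq_one_iff _).mp hq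
    exact (QuotientGroup.eq_one_iff _).mpr (hNY ▸ this)
  exact Group.isSolvable_of_isSolvable_injective hinj

end CfsgLib.OutTwo
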