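import Cfsg.Agent.Lib.Solvable.SmallOrder
import Cfsg.Agent.Lib.Zsigmondy.Basic
import Mathlib.GroupTheory.Sylow
import Mathlib.GroupTheory.PGroup
import Mathlib.GroupTheory.Subgroup.Centralizer
import Mathlib.RingTheory.IntegralDomain
import Mathlib.Algebra.Ring.Subring.Basic

/-!
Groups acting on an elementary abelian 2-group `E` with a normal subgroup transitive on the
non-identity elements: the quotient by that subgroup is solvable, if `|E| ≠ 64`.
-/

set_option autoImplicit false
set_option linter.style.haveILetI false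
set_option maxHeartbeats 400000

namespace CfsgLib.OutTwo

open Subgroup

variable {E : Type*} [CommGroup E]

/-- An automorphism as an endomorphism of the additive version of the group. -/
def toEndAdd : MulAut E →* AddMonoid.End (Additive E) where
  toFun c := MonoidHom.toAdditive (c.toMonoidHom)
  map_one' := rfl
  map_mul' _ _ := rfl

theorem toEndAdd_apply (c : MulAut E) (e : E) :
    toEndAdd c (Additive.ofMul e) = Additive.ofMul (c e) := rfl

theorem toEndAdd_injective : Function.Injective (toEndAdd (E := E)) := by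
  intro c d h
  refine MulEquiv.ext fun e => ?_
  have h1 := congrArg (fun f : AddMonoid.End (Additive E) => f (Additive.ofMul e)) h
  exact h1

/-- `x` leaves invariant only `⊥` and `⊤`. -/
abbrev IsPrimitiveAut (x : MulAut E) : Prop :=
  ∀ W : Subgroup E, (∀ e ∈ W, x e ∈ W) → W = ⊥ ∨ W = ⊤

/-- The endomorphisms commuting with `x`. -/
def commutant (x : MulAut E) : Subring (AddMonoid.End (Additive E)) :=
  Subring.centralizer {toEndAdd x}

theorem commutant_apply_comm {x : MulAut E} {f : AddMonoid.End (Additive E)}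
    (hf : f ∈ commutant x) (e : Additive E) : f (toEndAdd x e) = toEndAdd x (f e) := by
  have h1 : toEndAdd x * f = f * toEndAdd x := Subring.mem_centralizer_iff.1 hf _ rfl
  exact (congrArg (fun g : AddMonoid.End (Additive E) => g e) h1).symm

theorem commutant_eq_zero_or_injective {x : MulAut E} (hx : IsPrimitiveAut x)
    {f : AddMonoid.End (Additive E)} (hf : f ∈ commutant x) :
    f = 0 ∨ Function.Injective f := by
  let W : Subgroup E :=
    { carrier := {e | f (Additive.ofMul e) = 0}
      mul_mem' := fun {a b} ha hb => by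
        simp only [Set.mem_ofPred_eq] at *
        rw [ofMul_mul, map_add, ha, hb, add_zero]
      one_mem' := by simp
      inv_mem' := fun {a} ha => by
        simp only [Set.mem_ofPred_eq] at *
        rw [ofMul_inv, map_neg, ha, neg_zero] }
  have hW : ∀ e ∈ W, x e ∈ W := by
    intro e he
    change f (toEndAdd x (Additive.ofMul e)) = 0
    rw [commutant_apply_comm hf, (he : f (Additive.ofMul e) = 0)]
    exact map_zero _
  rcases hx W hW with hb | ht
  · right
    intro a b hab
    have h1 : Additive.toMul (a - b) ∈ W := by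
      change f (a - b) = 0
      rw [map_sub, hab, sub_self]
    rw [hb, Subgroup.mem_bot] at h1
    exact sub_eq_zero.1 h1
  · left
    refine AddMonoidHom.ext fun e => ?_
    have h1 : Additive.toMul e ∈ W := ht ▸ Subgroup.mem_top _
    exact h1

theorem commutant_comm {x : MulAut E} (hx : IsPrimitiveAut x) {c d : AddMonoid.End (Additive E)}
    (hc : c ∈ commutant x) (hd : d ∈ commutant x) : c * d = d * c := by
  by_cases hE : ∀ e : E, e = 1
  · refine AddMonoidHom.ext fun e => ?_
    exact congrArg Additive.ofMul ((hE _).trans (hE _).symm)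
  push Not at hE
  obtain ⟨a, ha⟩ := hE
  let P : Subgroup E :=
    { carrier := {e | ∃ f ∈ commutant x, f (Additive.ofMul a) = Additive.ofMul e ∧
        ∀ g ∈ commutant x, f * g = g * f}
      mul_mem' := by
        rintro e e' ⟨f, hf, hfa, hfc⟩ ⟨f', hf', hfa', hfc'⟩
        exact ⟨f + f', add_mem hf hf', by
          change f (Additive.ofMul a) + f' (Additive.ofMul a) = _
          rw [hfa, hfa', ofMul_mul],
          fun g hg => by rw [add_mul, mul_add, hfc g hg, hfc' g hg]⟩
      one_mem' := ⟨0, zero_mem _, by simp, fun g _ => by rw [zero_mul, mul_zero]⟩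
      inv_mem' := by
        rintro e ⟨f, hf, hfa, hfc⟩
        exact ⟨-f, neg_mem hf, by
          change -(f (Additive.ofMul a)) = _
          rw [hfa, ofMul_inv],
          fun g hg => (neg_mul f g).trans ((congrArg Neg.neg (hfc g hg)).trans (mul_neg g f).symm)⟩ }
  have hxc : toEndAdd x ∈ commutant x :=
    Subring.mem_centralizer_iff.2 (fun g hg => by rw [Set.mem_singleton_iff.1 hg])
  have hP : ∀ e ∈ P, x e ∈ P := by
    rintro e ⟨f, hf, hfa, hfc⟩
    refine ⟨toEndAdd x * f, mul_mem hxc hf, ?_, fun g hg => ?_⟩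
    · change toEndAdd x (f (Additive.ofMul a)) = _
      rw [hfa]
      rfl
    · have h1 : toEndAdd x * g = g * toEndAdd x := Subring.mem_centralizer_iff.1 hg _ rfl
      rw [mul_assoc, hfc g hg, ← mul_assoc, h1, mul_assoc]
  have haP : a ∈ P := ⟨1, one_mem _, rfl, fun g _ => by rw [one_mul, mul_one]⟩
  have htop : P = ⊤ := by
    rcases hx P hP with h | h
    · rw [h, Subgroup.mem_bot] at haP
      exact absurd haP ha
    · exact h
  obtain ⟨f, hf, hfa, hfc⟩ : Additive.toMul (c (Additive.ofMul a)) ∈ P := htop ▸ Subgroup.mem_top _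
  rcases commutant_eq_zero_or_injective hx (sub_mem hf hc) with h | h
  · rw [sub_eq_zero] at h
    subst h
    exact hfc d hd
  · exfalso
    have h1 : (f - c) (Additive.ofMul a) = (f - c) 0 := by
      rw [map_zero]
      change f (Additive.ofMul a) - c (Additive.ofMul a) = 0
      rw [hfa]
      exact sub_self _
    exact ha (congrArg Additive.toMul (h h1))

theorem commutant_mul_eq_zero {x : MulAut E} (hx : IsPrimitiveAut x)
    (f g : commutant x) (h : f * g = 0) : f = 0 ∨ g = 0 := by
  rcases commutant_eq_zero_or_injective hx f.2 with h1 | h1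
  · exact Or.inl (Subtype.ext h1)
  · refine Or.inr (Subtype.ext (AddMonoidHom.ext fun e => h1 ?_))
    have h2 := congrArg (fun t : commutant x => (t : AddMonoid.End (Additive E)) e) h
    exact h2.trans (map_zero _).symm

theorem mem_commutant_of_commute {x c : MulAut E} (h : c * x = x * c) :
    toEndAdd c ∈ commutant x :=
  Subring.mem_centralizer_iff.2 (fun g hg => by
    rw [Set.mem_singleton_iff.1 hg, ← map_mul, ← map_mul, h])

theorem comm_of_commute {x : MulAut E} (hx : IsPrimitiveAut x) {c d : MulAut E}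
    (hc : c * x = x * c) (hd : d * x = x * d) : c * d = d * c :=
  toEndAdd_injective (by
    rw [map_mul, map_mul]
    exact commutant_comm hx (mem_commutant_of_commute hc) (mem_commutant_of_commute hd))

theorem isCyclic_of_commute {x : MulAut E} (hx : IsPrimitiveAut x) (hne : ∃ e : E, e ≠ 1)
    (H : Subgroup (MulAut E)) [Finite H] (hH : ∀ c ∈ H, c * x = x * c) : IsCyclic H := by
  obtain ⟨e, he⟩ := hne
  letI : CommRing (commutant x) :=
    { (inferInstance : Ring (commutant x)) with
      mul_comm := fun f g => Subtype.ext (commutant_comm hx f.2 g.2) }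
  haveI : Nontrivial (commutant x) := ⟨⟨0, 1, fun h => he (by
    have h2 := congrArg (fun t : commutant x => (t : AddMonoid.End (Additive E))
      (Additive.ofMul e)) h
    exact (congrArg Additive.toMul h2).symm)⟩⟩
  haveI : NoZeroDivisors (commutant x) := ⟨fun {f g} h => commutant_mul_eq_zero hx f g h⟩
  haveI : IsDomain (commutant x) := NoZeroDivisors.to_isDomain _
  let φ : H →* commutant x :=
    { toFun := fun c => ⟨toEndAdd (c : MulAut E), mem_commutant_of_commute (hH _ c.2)⟩
      map_one' := Subtype.ext (map_one toEndAdd)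
      map_mul' := fun c d => Subtype.ext (map_mul toEndAdd (c : MulAut E) (d : MulAut E)) }
  refine isCyclic_of_injective_ringHom φ ?_
  intro c d h
  exact Subtype.ext (toEndAdd_injective (congrArg Subtype.val h))

variable [Finite E]

/-- The normaliser of a primitive automorphism is solvable. -/
theorem isSolvable_normalizer_of_primitive (x : MulAut E)
    (hirr : ∀ W : Subgroup E, (∀ e ∈ W, x e ∈ W) → W = ⊥ ∨ W = ⊤) :
    Group.IsSolvable
      ↥(Subgroup.normalizer ((Subgroup.zpowers x : Subgroup (MulAut E)) : Set (MulAut E))) := by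
  set H : Subgroup (MulAut E) := Subgroup.zpowers x with hH
  haveI : Group.IsSolvable (MulAut H) :=
    Group.isSolvable_of_comm fun a b => (IsCyclic.mulAutMulEquiv H).injective (by
      rw [map_mul, map_mul, mul_comm])
  set K := H.normalizerMonoidHom.ker
  haveI : Group.IsSolvable K := Group.isSolvable_of_comm fun a b => by
    have hmem : ∀ c : K, ((c : Subgroup.normalizer (H : Set (MulAut E))) : MulAut E) * x =
        x * ((c : Subgroup.normalizer (H : Set (MulAut E))) : MulAut E) := by
      intro c
      have hc := c.2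
      simp only [K, Subgroup.normalizerMonoidHom_ker, Subgroup.mem_subgroupOf] at hc
      exact ((Subgroup.mem_centralizer_iff.1 hc) x (Subgroup.mem_zpowers x)).symm
    exact Subtype.ext (Subtype.ext (comm_of_commute hirr (hmem a) (hmem b)))
  exact Group.isSolvable_of_ker_le_range K.subtype H.normalizerMonoidHom
    (by rw [Subgroup.range_subtype])

theorem isSolvable_mulAut_of_card_le_four (h : Nat.card E ≤ 4) :
    Group.IsSolvable (MulAut E) := by
  classical
  have := Fintype.ofFinite E
  let φ : MulAut E →* Equiv.Perm {e : E // e ≠ 1} :=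
    { toFun := fun c => (c.toEquiv).subtypeEquiv (fun e => by
        constructor
        · intro he h1
          exact he (c.injective (h1.trans (map_one c).symm))
        · intro he h1
          exact he (by rw [h1]; exact map_one c))
      map_one' := Equiv.ext fun e => Subtype.ext rfl
      map_mul' := fun a b => Equiv.ext fun e => Subtype.ext rfl }
  have hφ : Function.Injective φ := by
    intro c d hcd
    refine MulEquiv.ext fun e => ?_
    by_cases he : e = 1
    · rw [he, map_one, map_one]
    · exact congrArg Subtype.val (congrArg (fun p : Equiv.Perm _ => p ⟨e, he⟩) hcd)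
  have h3 : Nat.card {e : E // e ≠ 1} ≤ 3 := by
    rw [Nat.card_eq_fintype_card, Fintype.card_subtype_compl, Fintype.card_subtype_eq]
    rw [Nat.card_eq_fintype_card] at h
    omega
  haveI : Group.IsSolvable (Equiv.Perm {e : E // e ≠ 1}) := by
    have hc : Nat.card (Equiv.Perm {e : E // e ≠ 1}) =
        (Nat.card {e : E // e ≠ 1}).factorial := Nat.card_perm
    set m := Nat.card {e : E // e ≠ 1}
    rcases (show m ≤ 1 ∨ m = 2 ∨ m = 3 by omega) with hm | hm | hm
    · haveI : Subsingleton (Equiv.Perm {e : E // e ≠ 1}) :=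
        (Nat.card_eq_one_iff_unique.1 (by rw [hc, Nat.factorial_eq_one]; exact hm)).1
      infer_instance
    · refine CfsgLib.Solvable.isSolvable_of_card_pow_mul_prime _ _ 2 2 0 le_rfl Nat.prime_two
        Nat.prime_two ?_
      rw [hc, hm]; rfl
    · refine CfsgLib.Solvable.isSolvable_of_card_pow_mul_prime _ _ 2 3 1 le_rfl Nat.prime_two
        Nat.prime_three ?_
      rw [hc, hm]; rfl
  exact Group.isSolvable_of_isSolvable_injective hφ

theorem exists_card_eq_two_pow (hE : ∀ x : E, x ^ 2 = 1) (W : Subgroup E) :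
    ∃ k : ℕ, Nat.card W = 2 ^ k :=
  IsPGroup.iff_card.1 (fun w : W => ⟨1, Subtype.ext (by simpa using hE (w : E))⟩)

theorem isPrimitiveAut_of_orderOf_eq (hE : ∀ x : E, x ^ 2 = 1) {n r : ℕ} (hr : r.Prime)
    (hn : Nat.card E = 2 ^ n) (hrn : ∀ k : ℕ, 0 < k → k < n → ¬ r ∣ 2 ^ k - 1)
    (hr2 : r ≠ 2) {x : MulAut E} (hx : orderOf x = r) : IsPrimitiveAut x := by
  haveI : Fact r.Prime := ⟨hr⟩
  set P : Subgroup (MulAut E) := Subgroup.zpowers x
  have hP : IsPGroup r P := IsPGroup.of_card (n := 1) (by rw [Nat.card_zpowers, hx, pow_one])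
  let F : Subgroup E :=
    { carrier := {e | x e = e}
      mul_mem' := fun {a b} ha hb => by
        simp only [Set.mem_ofPred_eq] at *
        rw [map_mul, ha, hb]
      one_mem' := map_one x
      inv_mem' := fun {a} ha => by
        simp only [Set.mem_ofPred_eq] at *
        rw [map_inv, ha] }
  have key : ∀ j k : ℕ, j < k → k ≤ n → 2 ^ k ≡ 2 ^ j [MOD r] → k - j = n := by
    intro j k hjk hkn hmod
    by_contra hne
    have h1 : r ∣ 2 ^ k - 2 ^ j :=
      (Nat.modEq_iff_dvd' (Nat.pow_le_pow_right (by norm_num) hjk.le)).1 hmod.symm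
    have h2 : 2 ^ k - 2 ^ j = 2 ^ j * (2 ^ (k - j) - 1) := by
      rw [Nat.mul_sub, mul_one, ← pow_add, Nat.add_sub_cancel' hjk.le]
    rw [h2] at h1
    rcases hr.dvd_mul.1 h1 with h3 | h3
    · exact hr2 ((Nat.prime_dvd_prime_iff_eq hr Nat.prime_two).1 (hr.dvd_of_dvd_pow h3))
    · exact hrn (k - j) (by omega) (by omega) h3
  intro W hW
  have hWinv : ∀ c ∈ P, ∀ e ∈ W, c e ∈ W := by
    intro c hc e he
    obtain ⟨m, rfl⟩ := (IsOfFinOrder.mem_powers_iff_mem_zpowers (isOfFinOrder_of_finite x)).2 hc
    change (x ^ m) e ∈ W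
    clear hc
    induction m generalizing e with
    | zero => simpa using he
    | succ m ih => rw [pow_succ, MulAut.mul_apply]; exact ih _ (hW e he)
  letI : MulAction P W :=
    { smul := fun c w => ⟨(c : MulAut E) w, hWinv _ c.2 _ w.2⟩
      one_smul := fun w => Subtype.ext rfl
      mul_smul := fun a b w => Subtype.ext rfl }
  have hfix : ∀ (c : MulAut E), c ∈ P → ∀ e ∈ F, c e = e := by
    intro c hc e he
    obtain ⟨m, rfl⟩ := (IsOfFinOrder.mem_powers_iff_mem_zpowers (isOfFinOrder_of_finite x)).2 hc
    change (x ^ m) e = e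
    clear hc
    induction m with
    | zero => simp
    | succ m ih => rw [pow_succ, MulAut.mul_apply, (he : x e = e), ih]
  have hfp : Nat.card (MulAction.fixedPoints P W) = Nat.card ↥(F ⊓ W) :=
    Nat.card_congr
      { toFun := fun w => ⟨(w.1 : E), congrArg Subtype.val (w.2 ⟨x, Subgroup.mem_zpowers x⟩),
          w.1.2⟩
        invFun := fun e => ⟨⟨e.1, e.2.2⟩, fun c => Subtype.ext (hfix _ c.2 _ e.2.1)⟩
        left_inv := fun w => rfl
        right_inv := fun e => rfl }
  have hWmod := hP.card_modEq_card_fixedPoints W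
  rw [hfp] at hWmod
  obtain ⟨k, hk⟩ := exists_card_eq_two_pow hE W
  obtain ⟨j, hj⟩ := exists_card_eq_two_pow hE (F ⊓ W)
  obtain ⟨i, hi⟩ := exists_card_eq_two_pow hE F
  rw [hk, hj] at hWmod
  have hkn : k ≤ n := by
    refine (Nat.pow_le_pow_iff_right (by norm_num : 1 < 2)).1 ?_
    rw [← hk, ← hn]
    exact Subgroup.card_le_card_group W
  have hjk : j ≤ k := by
    refine (Nat.pow_le_pow_iff_right (by norm_num : 1 < 2)).1 ?_
    rw [← hk, ← hj]
    exact Subgroup.card_le_of_le inf_le_right
  rcases hjk.lt_or_eq with hlt | heq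
  · -- some element of `W` moves, so `W` is everything
    have h1 := key j k hlt hkn hWmod
    have hkn' : k = n := by omega
    right
    exact Subgroup.eq_top_of_card_eq W (by rw [hk, hn, hkn'])
  · -- `x` fixes `W` pointwise
    have hWF : W ≤ F := by
      have h1 : F ⊓ W = W :=
        Subgroup.eq_of_le_of_card_ge inf_le_right (by rw [hj, hk, heq])
      exact h1 ▸ inf_le_left
    by_cases hWb : W = ⊥
    · exact Or.inl hWb
    exfalso
    letI : MulAction P E :=
      { smul := fun c e => (c : MulAut E) e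
        one_smul := fun e => rfl
        mul_smul := fun a b e => rfl }
    have hfpE : Nat.card (MulAction.fixedPoints P E) = Nat.card ↥F :=
      Nat.card_congr
        { toFun := fun w => ⟨w.1, w.2 ⟨x, Subgroup.mem_zpowers x⟩⟩
          invFun := fun e => ⟨e.1, fun c => hfix _ c.2 _ e.2⟩
          left_inv := fun w => rfl
          right_inv := fun e => rfl }
    have hEmod := hP.card_modEq_card_fixedPoints E
    rw [hfpE, hn, hi] at hEmod
    have hk0 : k ≠ 0 := by
      intro h0
      exact hWb (Subgroup.eq_bot_of_card_eq W (by rw [hk, h0, pow_zero]))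
    have hki : k ≤ i := by
      refine (Nat.pow_le_pow_iff_right (by norm_num : 1 < 2)).1 ?_
      rw [← hk, ← hi]
      exact Subgroup.card_le_of_le hWF
    have hin : i < n := by
      refine (Nat.pow_lt_pow_iff_right (by norm_num : 1 < 2)).1 ?_
      rw [← hi, ← hn]
      refine lt_of_le_of_ne (Subgroup.card_le_card_group F) fun h => ?_
      have hFt : F = ⊤ := Subgroup.eq_top_of_card_eq F h
      have hx1 : x = 1 := MulEquiv.ext fun e => (hFt ▸ Subgroup.mem_top e : e ∈ F)
      rw [hx1, orderOf_one] at hx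
      exact hr.ne_one hx.symm
    have := key i n hin le_rfl hEmod
    omega

/-- The quotient by a normal subgroup transitive on the non-identity elements is solvable. -/
theorem isSolvable_quotient_of_transitive (hE : ∀ x : E, x ^ 2 = 1) {X : Type*} [Group X]
    [Finite X] (ρ : X →* MulAut E) (hρ : Function.Injective ρ) (Y : Subgroup X) [Y.Normal]
    (hY : ∀ a b : E, a ≠ 1 → b ≠ 1 → ∃ y ∈ Y, ρ y a = b)
    (h6 : Nat.card E ≠ 64) : Group.IsSolvable (X ⧸ Y) := by
  classical
  obtain ⟨n, hn⟩ : ∃ n : ℕ, Nat.card E = 2 ^ n :=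
    IsPGroup.iff_card.1 (fun e : E => ⟨1, by simpa using hE e⟩)
  by_cases hsmall : Nat.card E ≤ 4
  · haveI := isSolvable_mulAut_of_card_le_four hsmall
    haveI : Group.IsSolvable X := Group.isSolvable_of_isSolvable_injective hρ
    infer_instance
  have hn3 : 3 ≤ n := by
    by_contra h
    exact hsmall (hn ▸ le_trans (Nat.pow_le_pow_right (by norm_num) (show n ≤ 2 by omega))
      (by norm_num))
  have hn6 : n ≠ 6 := fun h => h6 (by rw [hn, h]; norm_num)
  obtain ⟨r, hr, hrd, hrp⟩ := CfsgLib.Zsigmondy.exists_primitive_prime_divisor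
    (a := 2) (n := n) (by norm_num) (by omega) (fun h => hn6 h.2) (fun h => by omega)
  haveI : Fact r.Prime := ⟨hr⟩
  have hr2 : r ≠ 2 := by
    rintro rfl
    have h2 : 2 ∣ 2 ^ n := dvd_pow_self 2 (by omega)
    have h1 : (1 : ℕ) ≤ 2 ^ n := Nat.one_le_two_pow
    omega
  obtain ⟨a, ha⟩ : ∃ a : E, a ≠ 1 := by
    by_contra h
    push Not at h
    haveI : Subsingleton E := ⟨fun a b => by rw [h a, h b]⟩
    exact hsmall (by rw [Nat.card_of_subsingleton (1 : E)]; norm_num)
  -- the order of `Y` is divisible by `2 ^ n - 1`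
  have hYdvd : 2 ^ n - 1 ∣ Nat.card Y := by
    letI : MulAction Y E := MulAction.compHom E (ρ.comp Y.subtype)
    have horb : MulAction.orbit Y a = ({1}ᶜ : Set E) := by
      ext b
      constructor
      · rintro ⟨y, rfl⟩ h
        exact ha ((ρ (y : X)).injective ((h : ρ (y : X) a = 1).trans (map_one _).symm))
      · intro hb
        obtain ⟨y, hy, hyb⟩ := hY a b ha hb
        exact ⟨⟨y, hy⟩, hyb⟩
    have h1 : Nat.card (MulAction.orbit Y a) = 2 ^ n - 1 := by
      rw [horb, Nat.card_coe_set_eq, Set.ncard_compl, Set.ncard_singleton, hn]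
    rw [← h1, Nat.card_congr (MulAction.orbitEquivQuotientStabilizer Y a)]
    exact Subgroup.card_quotient_dvd_card _
  let R : Sylow r Y := default
  haveI : Nontrivial R := by
    refine Finite.one_lt_card_iff_nontrivial.1 ?_
    rw [R.card_eq_multiplicity]
    exact one_lt_pow₀ hr.one_lt
      (Nat.Prime.factorization_pos_of_dvd hr Nat.card_pos.ne' (hrd.trans hYdvd)).ne'
  haveI := R.isPGroup'.center_nontrivial
  obtain ⟨z, hz⟩ : ∃ z : Subgroup.center R, orderOf z = r := by
    obtain ⟨k, hk⟩ := IsPGroup.iff_card.1 (R.isPGroup'.to_subgroup (Subgroup.center R))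
    refine exists_prime_orderOf_dvd_card' r ?_
    rw [hk]
    refine dvd_pow_self r fun h0 => ?_
    have := Finite.one_lt_card (α := Subgroup.center R)
    rw [hk, h0, pow_zero] at this
    omega
  set RX : Subgroup X := (R : Subgroup Y).map Y.subtype with hRX
  set xX : X := (((z : R) : Y) : X) with hxX
  have hxR : xX ∈ RX := ⟨((z : R) : Y), (z : R).2, rfl⟩
  have hord : orderOf (ρ xX) = r := by
    rw [orderOf_injective ρ hρ, hxX, Subgroup.orderOf_coe, Subgroup.orderOf_coe,
      Subgroup.orderOf_coe, hz]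
  have hcomm : ∀ c ∈ RX.map ρ, c * ρ xX = ρ xX * c := by
    rintro c ⟨g, ⟨y, hy, rfl⟩, rfl⟩
    rw [← map_mul, ← map_mul]
    exact congrArg ρ (congrArg (fun w : R => ((w : Y) : X))
      (Subgroup.mem_center_iff.1 z.2 ⟨y, hy⟩))
  have hirr : IsPrimitiveAut (ρ xX) :=
    isPrimitiveAut_of_orderOf_eq hE hr hn hrp hr2 hord
  haveI : IsCyclic (RX.map ρ) := isCyclic_of_commute hirr ⟨a, ha⟩ _ hcomm
  -- the normaliser of `R` normalises `⟨x⟩`
  set N : Subgroup X := Subgroup.normalizer (RX : Set X) with hN
  have hNle : ∀ g ∈ N, ρ g ∈ Subgroup.normalizer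
      ((Subgroup.zpowers (ρ xX) : Subgroup (MulAut E)) : Set (MulAut E)) := by
    intro g hg
    have hconj : ρ g * ρ xX * (ρ g)⁻¹ ∈ RX.map ρ := by
      rw [← map_inv, ← map_mul, ← map_mul]
      exact ⟨_, ((Subgroup.mem_normalizer_iff.1 hg) xX).1 hxR, rfl⟩
    set u : RX.map ρ := ⟨ρ xX, ⟨xX, hxR, rfl⟩⟩
    set v : RX.map ρ := ⟨_, hconj⟩
    have hu : orderOf u = r := by rw [← Subgroup.orderOf_coe]; exact hord
    have hv : orderOf v = r := by
      rw [← Subgroup.orderOf_coe]
      exact (MulEquiv.orderOf_eq (MulAut.conj (ρ g)) (ρ xX)).trans hord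
    have huv : Subgroup.zpowers v = Subgroup.zpowers u := by
      letI : CommGroup (RX.map ρ) := IsCyclic.commGroup
      have hle : ∀ w : RX.map ρ, orderOf w = r →
          Subgroup.zpowers w = (powMonoidHom r : (RX.map ρ) →* (RX.map ρ)).ker := by
        intro w hw
        refine Subgroup.eq_of_le_of_card_ge ?_ ?_
        · rw [Subgroup.zpowers_le]
          exact hw ▸ pow_orderOf_eq_one w
        · rw [IsCyclic.card_powMonoidHom_ker, Nat.card_zpowers, hw]
          exact Nat.gcd_le_right _ hr.pos
      rw [hle v hv, hle u hu]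
    have himg : Subgroup.zpowers (ρ g * ρ xX * (ρ g)⁻¹) = Subgroup.zpowers (ρ xX) := by
      have h := congrArg (Subgroup.map (RX.map ρ).subtype) huv
      rwa [MonoidHom.map_zpowers, MonoidHom.map_zpowers] at h
    refine Subgroup.mem_normalizer_iff.2 fun c => ?_
    have hmap : (Subgroup.zpowers (ρ xX)).map (MulAut.conj (ρ g)).toMonoidHom =
        Subgroup.zpowers (ρ xX) := by
      rw [MonoidHom.map_zpowers]
      exact himg
    constructor
    · intro hc
      rw [← hmap]
      exact ⟨c, hc, rfl⟩
    · intro hc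
      rw [← hmap] at hc
      obtain ⟨d, hd, hdc⟩ := hc
      rwa [← (MulAut.conj (ρ g)).injective (hdc : MulAut.conj (ρ g) d = MulAut.conj (ρ g) c)]
  haveI := isSolvable_normalizer_of_primitive (ρ xX) hirr
  let f : N →* ↥(Subgroup.normalizer
      ((Subgroup.zpowers (ρ xX) : Subgroup (MulAut E)) : Set (MulAut E))) :=
    (ρ.comp N.subtype).codRestrict _ (fun g => hNle _ g.2)
  haveI : Group.IsSolvable N := Group.isSolvable_of_isSolvable_injective (f := f)
    (fun a b h => Subtype.ext (hρ (congrArg Subtype.val h)))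
  have hsup : N ⊔ Y = ⊤ := Sylow.normalizer_sup_eq_top R
  refine Group.isSolvable_of_surjective (f := (QuotientGroup.mk' Y).comp N.subtype) ?_
  intro q
  induction q using QuotientGroup.induction_on with
  | H g =>
    have hg : g ∈ ((N ⊔ Y : Subgroup X) : Set X) := by rw [hsup]; exact Subgroup.mem_top g
    rw [Subgroup.mul_normal N Y] at hg
    obtain ⟨m, hm, y, hy, rfl⟩ := hg
    refine ⟨⟨m, hm⟩, ?_⟩
    change ((m : X) : X ⧸ Y) = ((m * y : X) : X ⧸ Y)
    rw [QuotientGroup.eq]
    simpa using hy

end CfsgLib.OutTwo
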