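import Cfsg.Agent.Lib.OutTwo.SixBase
import Cfsg.Agent.Lib.OutTwo.Transitive
import Cfsg.Agent.Lib.U6Cover.AutCard
import Cfsg.Agent.Lib.Counting.OrderValues

/-!
Groups acting on an elementary abelian group of order `64` with a normal subgroup transitive on the
non-identity elements: the quotient by that subgroup is solvable.
-/

set_option autoImplicit false
set_option linter.style.haveILetI false

namespace CfsgLib.OutTwo

namespace Six

theorem card_mulAut_six {E : Type*} [CommGroup E] (hE : ∀ x : E, x ^ 2 = 1) (h6 : Nat.card E = 64) :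
    Nat.card (MulAut E) = 2 ^ 15 * 3 ^ 4 * 5 * 7 ^ 2 * 31 := by
  rw [CfsgLib.U6Cover.card_mulAut_pow (n := 6) (fun a b => mul_comm a b) (fun a => (pow_two a).symm.trans (hE a))
    (by rw [h6]; norm_num)]
  norm_num [Fin.prod_univ_succ]

/-- Conjugation by an element of order seven is trivial on a small 3-group, and similar counts. -/
theorem inf_eq_of_modEq {G : Type*} [Group G] [Finite G] {p q k : ℕ} [Fact p.Prime] (hq : q.Prime)
    (f : MulAut G) (hf : f ^ p = 1) (W : Subgroup G) (hW : ∀ w ∈ W, f w ∈ W) (hcard : Nat.card W = q ^ k)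
    (hdist : ∀ i ≤ k, q ^ i % p = q ^ k % p → i = k) : W ≤ fixd f := by
  have h := card_fix_modEq f hf W hW
  have hd := Subgroup.card_dvd_of_le (inf_le_left : W ⊓ fixd f ≤ W)
  rw [hcard, Nat.dvd_prime_pow hq] at hd
  obtain ⟨i, hi, e⟩ := hd
  rw [e, hcard] at h
  have hik := hdist i hi h
  exact (Subgroup.eq_of_le_of_card_ge inf_le_left (by rw [e, hcard, hik])).ge.trans inf_le_right

/-- An element normalising a small subgroup centralises it when the counts force it. -/
theorem commute_of_modEq {X : Type*} [Group X] [Finite X] {p q k : ℕ} [Fact p.Prime] (hq : q.Prime)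
    (Q : Subgroup X) (y : X) (hy : y ^ p = 1) (hyn : y ∈ Subgroup.normalizer (Q : Set X))
    (hcard : Nat.card Q = q ^ k) (hdist : ∀ i ≤ k, q ^ i % p = q ^ k % p → i = k) :
    ∀ w ∈ Q, Commute y w := by
  have h := inf_eq_of_modEq hq (MulAut.conj y) (by rw [← map_pow, hy, map_one]) Q
    (fun w hw => (Subgroup.mem_normalizer_iff.1 hyn w).1 hw) hcard hdist
  intro w hw
  have e : y * w * y⁻¹ = w := h hw
  exact mul_inv_eq_iff_eq_mul.1 e

theorem normalizer_maps {X A : Type*} [Group X] [Group A] (ρ : X →* A) (Q : Subgroup X) {g : X}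
    (hg : g ∈ Subgroup.normalizer (Q : Set X)) :
    ρ g ∈ Subgroup.normalizer ((Q.map ρ : Subgroup A) : Set A) :=
  Subgroup.le_normalizer_map ρ (Subgroup.mem_map_of_mem ρ hg)

end Six

/-- The case of `64` elements. -/
theorem isSolvable_quotient_of_transitive_six {E : Type*} [CommGroup E] [Finite E] (hE : ∀ x : E, x ^ 2 = 1)
    {X : Type*} [Group X] [Finite X] (ρ : X →* MulAut E) (hρ : Function.Injective ρ) (Y : Subgroup X) [Y.Normal]
    (hY : ∀ a b : E, a ≠ 1 → b ≠ 1 → ∃ y ∈ Y, ρ y a = b) (h6 : Nat.card E = 64) : Group.IsSolvable (X ⧸ Y) := by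
  classical
  have hdvdX : ∀ K : Subgroup X, Nat.card K ∣ 2 ^ 15 * 3 ^ 4 * 5 * 7 ^ 2 * 31 := fun K => by
    rw [← Six.card_mulAut_six hE h6]
    exact Subgroup.card_dvd_of_injective (ρ.comp K.subtype) (hρ.comp K.subtype_injective)
  have h63 : 63 ∣ Nat.card Y := by
    letI : MulAction Y E := MulAction.compHom E (ρ.comp Y.subtype)
    haveI : Nontrivial E := Finite.one_lt_card_iff_nontrivial.1 (by omega)
    obtain ⟨a, ha⟩ := exists_ne (1 : E)
    have horb : MulAction.orbit Y a = ({1} : Set E)ᶜ := by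
      ext b
      constructor
      · rintro ⟨y, rfl⟩ e
        exact ha ((ρ (y : X)).injective (e.trans (map_one (ρ (y : X))).symm))
      · intro hb
        obtain ⟨y, hy, hyb⟩ := hY a b ha hb
        exact ⟨⟨y, hy⟩, hyb⟩
    have h := Nat.card_congr (MulAction.orbitEquivQuotientStabilizer Y a)
    rw [Nat.card_coe_set_eq, horb, Set.ncard_compl, Set.ncard_singleton, h6, ← Subgroup.index_eq_card] at h
    rw [show (64 - 1 : ℕ) = 63 from rfl] at h
    rw [h]
    exact Subgroup.index_dvd_card _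
  -- a Sylow subgroup of `Y` and its normaliser
  have frattini : ∀ (p : ℕ) [Fact p.Prime] (P : Sylow p Y),
      Function.Surjective ((QuotientGroup.mk' Y).comp
        (Subgroup.normalizer (((P : Subgroup Y).map Y.subtype : Subgroup X) : Set X)).subtype) := by
    intro p _ P q
    obtain ⟨g, rfl⟩ := QuotientGroup.mk'_surjective Y q
    have hg : g ∈ ((Subgroup.normalizer (((P : Subgroup Y).map Y.subtype : Subgroup X) : Set X) ⊔ Y :
        Subgroup X) : Set X) := by
      rw [Sylow.normalizer_sup_eq_top P]; exact Subgroup.mem_top g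
    rw [Subgroup.mul_normal _ Y] at hg
    obtain ⟨m, hm, y, hy, rfl⟩ := hg
    refine ⟨⟨m, hm⟩, ?_⟩
    show ((m : X) : X ⧸ Y) = ((m * y : X) : X ⧸ Y)
    rw [QuotientGroup.eq]
    simpa using hy
  have hexp : ∀ (p : ℕ) [Fact p.Prime] (k m : ℕ) (P : Sylow p Y), (p ^ k * m = 2 ^ 15 * 3 ^ 4 * 5 * 7 ^ 2 * 31) →
      Nat.Coprime p m → ∀ l : ℕ, p ^ l ∣ Nat.card Y →
      ∃ i, l ≤ i ∧ i ≤ k ∧ Nat.card ((P : Subgroup Y).map Y.subtype) = p ^ i := by
    intro p _ k m P hkm hcop l hl
    obtain ⟨i, hi⟩ := P.2.exists_card_eq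
    have hc : Nat.card ((P : Subgroup Y).map Y.subtype) = p ^ i := by
      rw [Subgroup.card_map_of_injective Y.subtype_injective]; exact hi
    refine ⟨i, ?_, ?_, hc⟩
    · have hm := P.card_eq_multiplicity
      rw [hi] at hm
      have := ((Fact.out : p.Prime).pow_dvd_iff_le_factorization Nat.card_pos.ne').1 hl
      have := Nat.pow_right_injective (Fact.out : p.Prime).two_le hm
      omega
    · have h := hdvdX ((P : Subgroup Y).map Y.subtype)
      rw [hc, ← hkm] at h
      exact (Nat.pow_dvd_pow_iff_le_right (Fact.out : p.Prime).one_lt).1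
        ((hcop.pow_left i).dvd_of_dvd_mul_right h)
  haveI f3 : Fact (Nat.Prime 3) := ⟨Nat.prime_three⟩
  haveI f7 : Fact (Nat.Prime 7) := ⟨by norm_num⟩
  let P3 : Sylow 3 Y := default
  let P7 : Sylow 7 Y := default
  set Q : Subgroup X := (P3 : Subgroup Y).map Y.subtype with hQdef
  set R : Subgroup X := (P7 : Subgroup Y).map Y.subtype with hRdef
  obtain ⟨i, hi2, hi4, hQc⟩ := hexp 3 4 (2 ^ 15 * 5 * 7 ^ 2 * 31) P3 (by norm_num) (by norm_num) 2
    (dvd_trans (by norm_num) h63)
  obtain ⟨j, hj1, hj2, hRc⟩ := hexp 7 2 (2 ^ 15 * 3 ^ 4 * 5 * 31) P7 (by norm_num) (by norm_num) 1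
    (dvd_trans (by norm_num) h63)
  set N := Subgroup.normalizer (Q : Set X) with hNdef
  by_cases hpair : ∃ a ∈ Q.map ρ, ∃ b ∈ Q.map ρ, a ^ 3 = 1 ∧ b ^ 3 = 1 ∧ Commute a b ∧ a ≠ 1 ∧
      b ∉ Subgroup.zpowers a
  · -- the quotient is a {2,3}-group
    obtain ⟨_, ⟨qa, hqa, rfl⟩, _, ⟨qb, hqb, rfl⟩, ha3, hb3, hab, ha1, hnb⟩ := hpair
    have h7 : ¬ 7 ∣ Nat.card (X ⧸ Y) := fun h => by
      have hN : 7 ∣ Nat.card N := h.trans (Subgroup.card_dvd_of_surjective _ (frattini 3 P3))
      obtain ⟨z, hz⟩ := exists_prime_orderOf_dvd_card' (G := N) 7 hN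
      have hz7 : (z : X) ^ 7 = 1 := by
        rw [← SubmonoidClass.coe_pow, ← hz, pow_orderOf_eq_one]; rfl
      have hz1 : ρ (z : X) ≠ 1 := fun e => by
        have e1 : z = 1 := Subtype.ext (hρ (e.trans (map_one ρ).symm))
        rw [e1, orderOf_one] at hz
        omega
      have hc : ∀ w ∈ Q, Commute (z : X) w := Six.commute_of_modEq Nat.prime_three Q z hz7 z.2 hQc (by
        interval_cases i <;> decide)
      exact Six.false_of_nine hE h6 (by rw [← map_pow, hz7, map_one]) hz1 ha3 hb3 hab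
        ((hc qa hqa).map ρ) ((hc qb hqb).map ρ) ha1 hnb
    have h5 : ∀ r : ℕ, r = 5 ∨ r = 31 → ¬ r ∣ Nat.card (X ⧸ Y) := fun r hr h => by
      haveI : Fact r.Prime := ⟨by rcases hr with rfl | rfl <;> norm_num⟩
      have hN : r ∣ Nat.card (Subgroup.normalizer (R : Set X)) :=
        h.trans (Subgroup.card_dvd_of_surjective _ (frattini 7 P7))
      obtain ⟨y, hy⟩ := exists_prime_orderOf_dvd_card' (G := Subgroup.normalizer (R : Set X)) r hN
      have hyr : (y : X) ^ r = 1 := by
        rw [← SubmonoidClass.coe_pow, ← hy, pow_orderOf_eq_one]; rfl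
      have hy1 : ρ (y : X) ≠ 1 := fun e => by
        have e1 : y = 1 := Subtype.ext (hρ (e.trans (map_one ρ).symm))
        rw [e1, orderOf_one] at hy
        rcases hr with rfl | rfl <;> omega
      have hc : ∀ w ∈ R, Commute (y : X) w := Six.commute_of_modEq (by norm_num : Nat.Prime 7) R y hyr y.2 hRc (by
        rcases hr with rfl | rfl <;> interval_cases j <;> decide)
      obtain ⟨z, hz⟩ := exists_prime_orderOf_dvd_card' (G := R) 7 (hRc ▸ dvd_pow_self 7 (by omega))
      have hz7 : (z : X) ^ 7 = 1 := by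
        rw [← SubmonoidClass.coe_pow, ← hz, pow_orderOf_eq_one]; rfl
      have hz1 : ρ (z : X) ≠ 1 := fun e => by
        have e1 : z = 1 := Subtype.ext (hρ (e.trans (map_one ρ).symm))
        rw [e1, orderOf_one] at hz
        omega
      exact Six.false_of_commute_seven h6 hr (by rw [← map_pow, hyr, map_one]) hy1
        (by rw [← map_pow, hz7, map_one]) hz1 ((hc z z.2).symm.map ρ)
    refine CfsgLib.OrderValues.isSolvable_of_two_primes ?_
    have hsub : (Nat.card (X ⧸ Y)).primeFactors ⊆ {2, 3} := by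
      intro r hr
      have hrp := Nat.prime_of_mem_primeFactors hr
      have hrd := Nat.dvd_of_mem_primeFactors hr
      have hX : Nat.card (X ⧸ Y) ∣ 2 ^ 15 * 3 ^ 4 * 5 * 7 ^ 2 * 31 :=
        ((Subgroup.index_eq_card Y) ▸ Subgroup.index_dvd_card Y : Nat.card (X ⧸ Y) ∣ Nat.card X).trans
          (Subgroup.card_top (G := X) ▸ hdvdX ⊤)
      have hr' := hrd.trans hX
      simp only [Finset.mem_insert, Finset.mem_singleton]
      have p5 : Nat.Prime 5 := by norm_num
      have p31 : Nat.Prime 31 := by norm_num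
      have p7 : Nat.Prime 7 := by norm_num
      rcases hrp.dvd_mul.1 hr' with h | h
      · rcases hrp.dvd_mul.1 h with h | h
        · rcases hrp.dvd_mul.1 h with h | h
          · rcases hrp.dvd_mul.1 h with h | h
            · exact Or.inl ((Nat.prime_dvd_prime_iff_eq hrp Nat.prime_two).1 (hrp.dvd_of_dvd_pow h))
            · exact Or.inr ((Nat.prime_dvd_prime_iff_eq hrp Nat.prime_three).1 (hrp.dvd_of_dvd_pow h))
          · exact absurd hrd ((Nat.prime_dvd_prime_iff_eq hrp p5).1 h ▸ h5 5 (Or.inl rfl))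
        · exact absurd hrd ((Nat.prime_dvd_prime_iff_eq hrp p7).1 (hrp.dvd_of_dvd_pow h) ▸ h7)
      · exact absurd hrd ((Nat.prime_dvd_prime_iff_eq hrp p31).1 h ▸ h5 31 (Or.inr rfl))
    exact (Finset.card_le_card hsub).trans Finset.card_le_two
  · -- `Q` is generated by an irreducible element of order nine
    push Not at hpair
    have hQp : IsPGroup 3 (Q.map ρ) := IsPGroup.of_card (n := i) (by
      rw [Subgroup.card_map_of_injective hρ, hQc])
    have h9 : 9 ∣ Nat.card (Q.map ρ) := by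
      rw [Subgroup.card_map_of_injective hρ, hQc]
      exact (show 9 = 3 ^ 2 by norm_num) ▸ pow_dvd_pow 3 hi2
    obtain ⟨x, -, hxQ, -, hirr⟩ := Six.exists_irreducible h6 (Q.map ρ) hQp h9
      (fun a ha b hb h1 h2 h3 h4 => hpair a ha b hb h1 h2 h3 h4)
    haveI := isSolvable_normalizer_of_primitive x hirr
    let f : N →* ↥(Subgroup.normalizer ((Subgroup.zpowers x : Subgroup (MulAut E)) : Set (MulAut E))) :=
      (ρ.comp N.subtype).codRestrict _ (fun g => by rw [hxQ]; exact Six.normalizer_maps ρ Q g.2)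
    haveI : Group.IsSolvable N := Group.isSolvable_of_isSolvable_injective (f := f)
      (fun a b h => Subtype.ext (hρ (congrArg Subtype.val h)))
    exact Group.isSolvable_of_surjective (frattini 3 P3)

end CfsgLib.OutTwo
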