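import Cfsg.Agent.Lib.OutTwo.Fix
import Cfsg.Agent.Lib.OutTwo.Aniso
import Cfsg.Agent.Lib.OutTwo.Six
import Cfsg.Agent.Lib.LocalEven.StrongClosed
import Cfsg.Agent.Lib.EssSmall.Frattini
import Cfsg.Agent.Lib.FT.Final

/-!
`Out G` is solvable for a simple group with a Sylow 2-subgroup on two generators, on three
generators with a non-trivial odd automiser, or with commuting fused involutions (S3066).
-/

set_option autoImplicit false
set_option linter.style.haveILetI false
set_option linter.style.longLine false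

open Subgroup
open scoped Pointwise

namespace CfsgLib.OutTwo

universe u

theorem noAniso : NoAniso.{u} := by
  intro D _ _ hperf W Z _ _ _ hW hZ act q B h1 h2 h3 h4 h5
  exact anisotropic_false (fun X _ _ h => CfsgLib.FT.solvable_of_odd h) hperf hW hZ act q B h1 h2 h3 h4 h5

theorem quotient_transitive {E : Type*} [CommGroup E] [Finite E] (hE : ∀ x : E, x ^ 2 = 1) {X : Type*}
    [Group X] [Finite X] (ρ : X →* MulAut E) (hρ : Function.Injective ρ) (Y : Subgroup X) [Y.Normal]
    (hY : ∀ a b : E, a ≠ 1 → b ≠ 1 → ∃ y ∈ Y, ρ y a = b) : Group.IsSolvable (X ⧸ Y) := by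
  by_cases h6 : Nat.card E = 64
  · exact isSolvable_quotient_of_transitive_six hE ρ hρ Y hY h6
  · exact isSolvable_quotient_of_transitive hE ρ hρ Y hY h6

theorem isSolvable_ker_comp {A B C : Type*} [Group A] [Group B] [Group C] (g : A →* B) (h : B →* C)
    (hg : Group.IsSolvable ↥g.ker) (Γ : Subgroup B) (hΓ : Group.IsSolvable ↥Γ)
    (hle : ∀ a, h (g a) = 1 → g a ∈ Γ) : Group.IsSolvable ↥(h.comp g).ker := by
  let k : ↥(h.comp g).ker →* ↥Γ := (g.comp (h.comp g).ker.subtype).codRestrict Γ fun a => hle a a.2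
  let i : ↥g.ker →* ↥(h.comp g).ker :=
    g.ker.subtype.codRestrict (h.comp g).ker fun a => by
      show h (g a) = 1
      rw [show g (a : A) = 1 from a.2, map_one]
  exact Group.isSolvable_of_ker_le_range i k (fun a ha => by
    have h1 : g (a : A) = 1 := congrArg Subtype.val (show k a = 1 from ha)
    exact ⟨⟨a, h1⟩, Subtype.ext rfl⟩)

theorem card_closure_insert_le {V : Type*} [CommGroup V] [Finite V] (hV : ∀ v : V, v ^ 2 = 1) (a : V)
    (T : Set V) : Nat.card ↥(closure (insert a T)) ≤ 2 * Nat.card ↥(closure T) := by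
  rw [Set.insert_eq, Subgroup.closure_union, ← Subgroup.zpowers_eq_closure]
  have h : ((zpowers a ⊔ closure T : Subgroup V) : Set V) = (zpowers a : Set V) * (closure T : Set V) :=
    Subgroup.mul_normal _ _
  calc Nat.card ↥(zpowers a ⊔ closure T) = Nat.card ↑((zpowers a : Set V) * (closure T : Set V)) := by
        rw [← h]; rfl
    _ ≤ Nat.card ↑(zpowers a : Set V) * Nat.card ↑(closure T : Set V) := Set.natCard_mul_le
    _ ≤ _ := Nat.mul_le_mul_right _ (by
      show Nat.card ↥(zpowers a) ≤ 2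
      rw [Nat.card_zpowers]
      exact Nat.le_of_dvd (by norm_num) (orderOf_dvd_of_pow_eq_one (hV a)))

/-- Automorphisms preserving a subgroup `F` of a group of order at most eight form a solvable
group. -/
theorem isSolvable_of_invariant {V : Type*} [CommGroup V] [Finite V] (X : Subgroup (MulAut V))
    (F : Subgroup V) (hF : ∀ x ∈ X, x ∈ stab F) (h1 : Nat.card F ≤ 4) (h2 : Nat.card (V ⧸ F) ≤ 4) :
    Group.IsSolvable ↥X := by
  haveI := isSolvable_mulAut_of_card_le_four h1
  haveI := isSolvable_mulAut_of_card_le_four h2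
  let r : ↥X →* MulAut ↥F := (resAut F).comp (X.subtype.codRestrict (stab F) fun x => hF x x.2)
  have hmap : ∀ x : X, F.map ((x : MulAut V) : V →* V) = F := by
    intro x
    ext v
    constructor
    · rintro ⟨w, hw, rfl⟩; exact (hF x x.2 w).mpr hw
    · intro hv
      exact ⟨(x : MulAut V).symm v, (hF x x.2 _).mp (by rwa [MulEquiv.apply_symm_apply]), MulEquiv.apply_symm_apply _ _⟩
  let qf : ↥X →* MulAut (V ⧸ F) :=
    { toFun := fun x => QuotientGroup.congr F F (x : MulAut V) (hmap x)
      map_one' := MulEquiv.ext fun v => by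
        obtain ⟨v, rfl⟩ := QuotientGroup.mk_surjective v; rfl
      map_mul' := fun x y => MulEquiv.ext fun v => by
        obtain ⟨v, rfl⟩ := QuotientGroup.mk_surjective v; rfl }
  let p : ↥X →* MulAut ↥F × MulAut (V ⧸ F) := r.prod qf
  haveI : Group.IsSolvable ↥p.ker := Group.isSolvable_of_comm fun x y => by
    apply Subtype.ext; apply Subtype.ext; refine MulEquiv.ext fun v => ?_
    have key : ∀ z : p.ker, ∀ w : V, ∃ f ∈ F, ((z : X) : MulAut V) w = w * f ∧ ∀ g ∈ F, ((z : X) : MulAut V) g = g := by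
      intro z w
      have hz := z.2
      rw [MonoidHom.mem_ker] at hz
      have hz1 : r z = 1 := congrArg Prod.fst hz
      have hz2 : qf z = 1 := congrArg Prod.snd hz
      have h := congrArg (fun e : MulAut (V ⧸ F) => e (QuotientGroup.mk w)) hz2
      refine ⟨_, QuotientGroup.eq.mp (h.symm :), (mul_inv_cancel_left _ _).symm, fun g hg => ?_⟩
      exact congrArg Subtype.val (DFunLike.congr_fun hz1 ⟨g, hg⟩)
    obtain ⟨f, hf, hxv, hxF⟩ := key x v
    obtain ⟨g, hg, hyv, hyF⟩ := key y v
    show ((x : X) : MulAut V) (((y : X) : MulAut V) v) = ((y : X) : MulAut V) (((x : X) : MulAut V) v)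
    rw [hyv, hxv, map_mul, map_mul, hxv, hyv, hxF g hg, hyF f hf, mul_assoc, mul_assoc, mul_comm f g]
  haveI : Group.IsSolvable (MulAut ↥F × MulAut (V ⧸ F)) := inferInstance
  exact Group.isSolvable_of_ker_le_range p.ker.subtype p (Subgroup.range_subtype _).ge

/-- Automorphism groups of a group of order at most eight with a nontrivial normal subgroup of odd
order are solvable. -/
theorem isSolvable_card_eight {V : Type*} [CommGroup V] [Finite V] (hV : ∀ v : V, v ^ 2 = 1)
    (h8 : Nat.card V ≤ 8) (X : Subgroup (MulAut V)) (Y : Subgroup ↥X) [Y.Normal]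
    (hodd : Odd (Nat.card Y)) (hne : Y ≠ ⊥) : Group.IsSolvable (↥X ⧸ Y) := by
  obtain ⟨n, hn⟩ : ∃ n : ℕ, Nat.card V = 2 ^ n := IsPGroup.iff_card.1 (fun e : V => ⟨1, by simpa using hV e⟩)
  by_cases hsmall : Nat.card V ≤ 4
  · haveI := isSolvable_mulAut_of_card_le_four hsmall
    haveI : Group.IsSolvable ↥X := Group.isSolvable_of_isSolvable_injective (f := X.subtype) Subtype.val_injective
    infer_instance
  have hn3 : n = 3 := by
    rcases Nat.lt_trichotomy n 3 with h | h | h
    · exact absurd (hn ▸ Nat.pow_le_pow_right (by norm_num : 1 ≤ 2) (show n ≤ 2 by omega) : Nat.card V ≤ 4) hsmall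
    · exact h
    · have := Nat.pow_le_pow_right (by norm_num : 1 ≤ 2) (show 4 ≤ n by omega)
      omega
  subst hn3
  let ρ : ↥X →* MulAut V := X.subtype
  by_cases h7 : ∃ y ∈ Y, orderOf y = 7
  · obtain ⟨y, hy, hy7⟩ := h7
    have hy7' : orderOf (ρ y) = 7 := by
      rw [orderOf_injective ρ Subtype.val_injective, hy7]
    have hprim := isPrimitiveAut_of_orderOf_eq hV (n := 3) (r := 7) (by norm_num) hn
      (fun k h1 h2 => by interval_cases k <;> norm_num) (by norm_num) hy7'
    refine quotient_transitive hV ρ Subtype.val_injective Y ?_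
    intro a b ha hb
    -- the orbit of `a` under an element of order seven is everything
    haveI : Fact (Nat.Prime 7) := ⟨by norm_num⟩
    have hmove : ∀ c : V, c ≠ 1 → ρ y c ≠ c := by
      intro c hc hfix
      rcases hprim (zpowers c) (fun w hw => by
        obtain ⟨k, rfl⟩ := hw
        rw [map_zpow, hfix]; exact zpow_mem_zpowers c k) with h | h
      · exact hc (Subgroup.zpowers_eq_bot.mp h)
      · have h' : Nat.card (zpowers c) ≤ 2 := by
          rw [Nat.card_zpowers]; exact Nat.le_of_dvd (by norm_num) (orderOf_dvd_of_pow_eq_one (hV c))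
        rw [h, Subgroup.card_top, hn] at h'
        norm_num at h'
    let e : ℕ → V := fun k => (ρ y ^ k) a
    have he1 : ∀ k, e k ≠ 1 := fun k h => ha ((ρ y ^ k).injective (h.trans (map_one _).symm))
    have hinj : ∀ i < 7, ∀ j < 7, i < j → e i ≠ e j := by
      intro i _ j hj hij h
      have hfix : (ρ y ^ (j - i)) (e i) = e i := by
        show (ρ y ^ (j - i)) ((ρ y ^ i) a) = _
        rw [← MulAut.mul_apply, ← pow_add, Nat.sub_add_cancel hij.le]
        exact h.symm
      have hcop : Nat.Coprime (j - i) (orderOf (ρ y)) := by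
        rw [hy7']
        exact Nat.coprime_comm.mp ((Nat.Prime.coprime_iff_not_dvd (by norm_num)).mpr
          (Nat.not_dvd_of_pos_of_lt (by omega) (by omega)))
      obtain ⟨m, hm⟩ := exists_pow_eq_self_of_coprime hcop
      have hall : ∀ m : ℕ, ((ρ y ^ (j - i)) ^ m) (e i) = e i := by
        intro m
        induction m with
        | zero => simp
        | succ m ih => rw [pow_succ, MulAut.mul_apply, hfix, ih]
      exact hmove (e i) (he1 i) (hm ▸ hall m)
    classical
    haveI := Fintype.ofFinite V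
    have hcard : (Finset.univ.erase (1 : V)) ⊆ (Finset.range 7).image e := by
      refine (Finset.eq_of_subset_of_card_le (fun v hv => ?_) ?_).ge
      · obtain ⟨k, -, rfl⟩ := Finset.mem_image.mp hv
        exact Finset.mem_erase.mpr ⟨he1 k, Finset.mem_univ _⟩
      · rw [Finset.card_erase_of_mem (Finset.mem_univ _), Finset.card_univ, ← Nat.card_eq_fintype_card, hn,
          Finset.card_image_of_injOn, Finset.card_range]
        · norm_num
        · intro i hi j hj hij
          rw [Finset.coe_range, Set.mem_Iio] at hi hj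
          rcases Nat.lt_trichotomy i j with h | h | h
          · exact absurd hij (hinj i hi j hj h)
          · exact h
          · exact absurd hij.symm (hinj j hj i hi h)
    obtain ⟨k, -, hk⟩ := Finset.mem_image.mp (hcard (Finset.mem_erase.mpr ⟨hb, Finset.mem_univ _⟩))
    exact ⟨y ^ k, pow_mem hy k, by rw [map_pow]; exact hk⟩
  · -- `Y` is a 3-group, so fixes a vector
    have hY3 : IsPGroup 3 Y := by
      refine IsPGroup.of_card (n := (Nat.card Y).primeFactorsList.length)
        (Nat.eq_prime_pow_of_unique_prime_dvd Nat.card_pos.ne' fun {p} hp hdvd => ?_)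
      haveI : Fact p.Prime := ⟨hp⟩
      obtain ⟨y, hy⟩ := exists_prime_orderOf_dvd_card' (G := Y) p hdvd
      have hyX : orderOf ((y : X) : MulAut V) = p := by rw [Subgroup.orderOf_coe, Subgroup.orderOf_coe, hy]
      have hp2 : p ≠ 2 := fun h => Nat.not_even_iff_odd.mpr hodd (even_iff_two_dvd.mpr (h ▸ hdvd))
      have hd : p ∣ Nat.card (MulAut V) := hyX ▸ orderOf_dvd_natCard _
      rw [CfsgLib.U6Cover.card_mulAut_pow (n := 3) (fun a b => mul_comm a b)
        (fun a => (pow_two a).symm.trans (hV a)) hn] at hd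
      norm_num [Finset.prod_range_succ] at hd
      rcases (Nat.Prime.dvd_mul hp).mp (show p ∣ 2 ^ 3 * (3 * 7) by norm_num; exact hd) with h | h
      · exact absurd ((Nat.prime_dvd_prime_iff_eq hp Nat.prime_two).mp (hp.dvd_of_dvd_pow h)) hp2
      · rcases (Nat.Prime.dvd_mul hp).mp h with h | h
        · exact (Nat.prime_dvd_prime_iff_eq hp Nat.prime_three).mp h
        · exfalso
          obtain rfl := (Nat.prime_dvd_prime_iff_eq hp (by norm_num)).mp h
          exact h7 ⟨y, y.2, by rw [Subgroup.orderOf_coe, hy]⟩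
    haveI : Fact (Nat.Prime 3) := ⟨Nat.prime_three⟩
    letI : MulAction ↥Y V := MulAction.compHom V (ρ.comp Y.subtype)
    let F : Subgroup V :=
      { carrier := {v | ∀ y ∈ Y, ρ y v = v}
        one_mem' := fun y _ => map_one _
        mul_mem' := fun {a b} ha hb y hy => by rw [map_mul, ha y hy, hb y hy]
        inv_mem' := fun {a} ha y hy => by rw [map_inv, ha y hy] }
    have hFset : MulAction.fixedPoints ↥Y V = (F : Set V) := by
      ext v
      exact ⟨fun h y hy => h ⟨y, hy⟩, fun h y => h y y.2⟩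
    have hmod := hY3.card_modEq_card_fixedPoints V
    rw [hFset, hn] at hmod
    have hmod' : 2 ^ 3 % 3 = Nat.card ↥F % 3 := hmod
    have hFtop : F ≠ ⊤ := fun h => hne (Y.eq_bot_iff_forall.mpr fun y hy => Subtype.ext
      (MulEquiv.ext fun v => (h ▸ mem_top v : v ∈ F) y hy))
    have hmul := Subgroup.card_eq_card_quotient_mul_card_subgroup F
    have hdvd : Nat.card ↥F ∣ 2 ^ 3 := hn ▸ Subgroup.card_subgroup_dvd_card F
    obtain ⟨i, hi, hFi⟩ := (Nat.dvd_prime_pow Nat.prime_two).mp hdvd
    have hi3 : i ≠ 3 := fun h => hFtop (Subgroup.eq_top_of_card_eq F (by rw [hFi, h, hn]))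
    have hi0 : i ≠ 0 := fun h => by rw [hFi, h] at hmod'; norm_num at hmod'
    rw [hn, hFi] at hmul
    have hsolv : Group.IsSolvable ↥X := isSolvable_of_invariant X F (fun x hx v => by
      have hinvar : ∀ x' : X, ∀ w ∈ F, (x' : MulAut V) w ∈ F := by
        intro x' w hw y hy
        have h := hw _ ((inferInstance : Y.Normal).conj_mem y hy x'⁻¹)
        rw [map_mul, map_mul, map_inv, inv_inv, MulAut.mul_apply, MulAut.mul_apply] at h
        exact (MulEquiv.eq_symm_apply _).mp h.symm |>.symm
      refine ⟨fun h => ?_, fun h => hinvar ⟨x, hx⟩ v h⟩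
      have := hinvar ⟨x⁻¹, inv_mem hx⟩ _ h
      rwa [MulAut.inv_apply_self] at this)
      (by rw [hFi]; exact le_trans (Nat.pow_le_pow_right (by norm_num) (show i ≤ 2 by omega)) (by norm_num))
      (by
        have h2 : 2 ≤ 2 ^ i := le_trans (by norm_num) (Nat.pow_le_pow_right (by norm_num) (show 1 ≤ i by omega))
        nlinarith)
    haveI := hsolv
    infer_instance

variable {G : Type u} [Group G] [Finite G] [IsSimpleGroup G] (S : Sylow 2 G)

theorem oddCore_trivial (hS1 : (S : Subgroup G) ≠ ⊥) :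
    ∀ N : Subgroup G, N.Normal → Odd (Nat.card N) → N = ⊥ := by
  intro N hN hodd
  refine hN.eq_bot_or_eq_top.resolve_right fun h => ?_
  obtain ⟨n, hn⟩ := IsPGroup.iff_card.mp S.isPGroup'
  have h2 : 2 ∣ Nat.card G := by
    refine dvd_trans ?_ (Subgroup.card_subgroup_dvd_card (S : Subgroup G))
    rw [hn]
    refine dvd_pow_self 2 fun h0 => hS1 (Subgroup.card_eq_one.mp ?_)
    rw [hn, h0, pow_zero]
  rw [h, Subgroup.card_top] at hodd
  exact Nat.not_even_iff_odd.mpr hodd (even_iff_two_dvd.mpr h2)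

omit [IsSimpleGroup G] in
theorem frattiniQuot_sq (x : ↥(S : Subgroup G) ⧸ frattini ↥(S : Subgroup G)) : x ^ 2 = 1 := by
  haveI : Fact (Nat.Prime 2) := ⟨Nat.prime_two⟩
  obtain ⟨x, rfl⟩ := QuotientGroup.mk_surjective x
  rw [← QuotientGroup.mk_pow, QuotientGroup.eq_one_iff]
  exact CfsgLib.OddOrder.pow_mem_frattini_of_isPGroup S.isPGroup' x

omit [IsSimpleGroup G] in
theorem frattiniQuot_comm (x y : ↥(S : Subgroup G) ⧸ frattini ↥(S : Subgroup G)) : x * y = y * x := by
  have hi : ∀ z : ↥(S : Subgroup G) ⧸ frattini ↥(S : Subgroup G), z⁻¹ = z := fun z =>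
    inv_eq_of_mul_eq_one_right (by rw [← pow_two]; exact frattiniQuot_sq S z)
  calc x * y = (x * y)⁻¹ := (hi _).symm
    _ = y * x := by rw [mul_inv_rev, hi, hi]

/-- The action of `stab S` on the Frattini quotient. -/
noncomputable def frAct : ↥(stab (S : Subgroup G)) →* MulAut (↥(S : Subgroup G) ⧸ frattini ↥(S : Subgroup G)) :=
  (CfsgLib.EssSmall.frattiniQuotAct ↥(S : Subgroup G)).comp (resAut (S : Subgroup G))

theorem frAct_ker (hS1 : (S : Subgroup G) ≠ ⊥) : Group.IsSolvable ↥(frAct S).ker := by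
  haveI : Fact (Nat.Prime 2) := ⟨Nat.prime_two⟩
  haveI hp : IsPGroup 2 ↥(CfsgLib.EssSmall.frattiniQuotAct ↥(S : Subgroup G)).ker := by
    have h := CfsgLib.EssSmall.isPGroup_ker_frattiniQuotAct S.isPGroup'
      (CfsgLib.EssSmall.frattiniQuotAct ↥(S : Subgroup G)).ker
    intro g
    obtain ⟨k, hk⟩ := h ⟨g, g.2⟩
    exact ⟨k, congrArg Subtype.val hk⟩
  haveI := hp.isNilpotent
  exact isSolvable_ker_comp _ _
    (isSolvable_ker_res (fun X _ _ h => CfsgLib.FT.solvable_of_odd h) (oddCore_trivial S hS1) S)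
    (CfsgLib.EssSmall.frattiniQuotAct ↥(S : Subgroup G)).ker inferInstance (fun a ha => ha)

theorem case_two (hS1 : (S : Subgroup G) ≠ ⊥)
    (h : ∃ a b : ↥S, Subgroup.closure ({a, b} : Set ↥S) = ⊤) : Group.IsSolvable (Cfsg.Out G) := by
  obtain ⟨a, b, hab⟩ := h
  haveI : Fact (Nat.Prime 2) := ⟨Nat.prime_two⟩
  letI : CommGroup (↥(S : Subgroup G) ⧸ frattini ↥(S : Subgroup G)) :=
    { (inferInstance : Group _) with mul_comm := CfsgLib.OutTwo.frattiniQuot_comm S }
  haveI := frAct_ker S hS1
  refine out_isSolvable_of_hom S (frAct S) fun N hN _ => ?_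
  haveI := hN
  haveI : Group.IsSolvable (MulAut (↥(S : Subgroup G) ⧸ frattini ↥(S : Subgroup G))) := by
    refine isSolvable_mulAut_of_card_le_four ?_
    have h1 := card_closure_insert_le (frattiniQuot_sq S) (QuotientGroup.mk a) ({QuotientGroup.mk b} : Set _)
    have h2 := card_closure_insert_le (frattiniQuot_sq S) (QuotientGroup.mk b : ↥(S : Subgroup G) ⧸ frattini ↥(S : Subgroup G)) ∅
    rw [Subgroup.closure_empty, Subgroup.card_bot, ← Set.singleton_def (QuotientGroup.mk b : ↥(S : Subgroup G) ⧸ frattini ↥(S : Subgroup G))] at h2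
    have htop : closure ({QuotientGroup.mk a, QuotientGroup.mk b} : Set (↥(S : Subgroup G) ⧸ frattini ↥(S : Subgroup G))) = ⊤ := by
      rw [show ({QuotientGroup.mk a, QuotientGroup.mk b} : Set (↥(S : Subgroup G) ⧸ frattini ↥(S : Subgroup G))) = QuotientGroup.mk' _ '' {a, b} from (Set.image_pair _ _ _).symm,
        ← MonoidHom.map_closure, hab, Subgroup.map_top_of_surjective _ (QuotientGroup.mk'_surjective _)]
    rw [htop, Subgroup.card_top] at h1
    omega
  infer_instance

end CfsgLib.OutTwo
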