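import Mathlib

/-!
Counting fixed points of automorphisms of a group of order `64` in which every element is an
involution.
-/

set_option autoImplicit false
set_option linter.style.haveILetI false

namespace CfsgLib.OutTwo.Six

/-- The fixed subgroup of an automorphism. -/
def fixd {G : Type*} [Group G] (f : MulAut G) : Subgroup G := f.toMonoidHom.eqLocus (MonoidHom.id G)

theorem mem_fixd {G : Type*} [Group G] {f : MulAut G} {v : G} : v ∈ fixd f ↔ f v = v := Iff.rfl

theorem fixd_eq_top {G : Type*} [Group G] {f : MulAut G} (h : fixd f = ⊤) : f = 1 :=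
  MulEquiv.ext fun v => (h.symm ▸ Subgroup.mem_top v : v ∈ fixd f)

theorem fixd_mem_of_commute {G : Type*} [Group G] {f g : MulAut G} (h : Commute f g) {v : G} (hv : v ∈ fixd f) :
    g v ∈ fixd f := by
  rw [mem_fixd, ← MulAut.mul_apply, h.eq, MulAut.mul_apply, mem_fixd.1 hv]

/-- An automorphism of prime order fixes, modulo that prime, as many elements of an invariant
subgroup as there are. -/
theorem card_fix_modEq {G : Type*} [Group G] [Finite G] {p : ℕ} [Fact p.Prime] (f : MulAut G) (hf : f ^ p = 1)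
    (W : Subgroup G) (hW : ∀ w ∈ W, f w ∈ W) :
    Nat.card (W ⊓ fixd f : Subgroup G) % p = Nat.card W % p := by
  classical
  haveI := Fintype.ofFinite W
  let σ : Equiv.Perm W := Equiv.ofBijective (fun w => ⟨f w, hW w w.2⟩)
    (Finite.injective_iff_bijective.1 fun a b h => Subtype.ext (f.injective (congrArg Subtype.val h)))
  have hpow : ∀ (n : ℕ) (w : W), ((σ ^ n) w : G) = (f ^ n) w := by
    intro n
    induction n with
    | zero => intro w; rfl
    | succ n ih => intro w; rw [pow_succ, pow_succ, Equiv.Perm.mul_apply, MulAut.mul_apply, ih]; rfl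
  have hσ : σ ^ p ^ 1 = 1 := Equiv.ext fun w => Subtype.ext (by rw [pow_one, hpow, hf]; rfl)
  have h := Equiv.Perm.card_compl_support_modEq hσ
  have e : Nat.card (W ⊓ fixd f : Subgroup G) = σ.supportᶜ.card := by
    rw [← Fintype.card_coe, ← Nat.card_eq_fintype_card]
    refine Nat.card_congr
      { toFun := fun v => ⟨⟨v, (Subgroup.mem_inf.1 v.2).1⟩, ?_⟩
        invFun := fun w => ⟨(w.1 : G), Subgroup.mem_inf.2 ⟨w.1.2, ?_⟩⟩
        left_inv := fun v => rfl
        right_inv := fun w => rfl }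
    · simp only [Finset.mem_compl, Equiv.Perm.mem_support, not_not]
      exact Subtype.ext (mem_fixd.1 (Subgroup.mem_inf.1 v.2).2)
    · have := w.2
      simp only [Finset.mem_compl, Equiv.Perm.mem_support, not_not] at this
      exact mem_fixd.2 (congrArg Subtype.val this)
  rw [e, Nat.card_eq_fintype_card]
  exact h

/-- A group acting freely has order dividing the number of points. -/
theorem card_dvd_of_free {H α : Type*} [Group H] [MulAction H α] [Finite α] [Finite H]
    (h : ∀ (g : H) (a : α), g • a = a → g = 1) : Nat.card H ∣ Nat.card α := by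
  classical
  haveI := Fintype.ofFinite (MulAction.orbitRel.Quotient H α)
  rw [Nat.card_congr (MulAction.selfEquivSigmaOrbits H α), Nat.card_sigma]
  refine Finset.dvd_sum fun ω _ => ?_
  have hs : MulAction.stabilizer H ω.out = ⊥ := (Subgroup.eq_bot_iff_forall _).2 fun g hg => h g _ hg
  rw [Nat.card_congr (MulAction.orbitEquivQuotientStabilizer H ω.out), ← Subgroup.index_eq_card, hs,
    Subgroup.index_bot]

theorem rotate_nine {M : Type*} [AddCommGroup M] (p q r s t u w x y : M) :
    q + r + p + (t + u + s) + (x + y + w) = p + q + r + (s + t + u) + (w + x + y) := by abel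

theorem sum_four {M : Type*} [AddCommGroup M] (v a a' b b' c c' e e' : M) (h : v + v = 0) :
    v + a + a' + (v + b + b') + (v + c + c' + (v + e + e')) + -(v + a + a' + (b + c + e') + (b' + e + c')) = v := by
  calc _ = v + (v + v) := by abel
    _ = v := by rw [h, add_zero]

variable {E : Type*} [CommGroup E] [Finite E]

theorem card_cases (h64 : Nat.card E = 64) (W : Subgroup E) : Nat.card W = 1 ∨ Nat.card W = 2 ∨
    Nat.card W = 4 ∨ Nat.card W = 8 ∨ Nat.card W = 16 ∨ Nat.card W = 32 ∨ Nat.card W = 64 := by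
  have h := Subgroup.card_subgroup_dvd_card W
  rw [h64, show (64 : ℕ) = 2 ^ 6 by norm_num, Nat.dvd_prime_pow Nat.prime_two] at h
  obtain ⟨k, hk, e⟩ := h
  interval_cases k <;> simp [e]

theorem card_eq_64_iff (h64 : Nat.card E = 64) (W : Subgroup E) : Nat.card W = 64 ↔ W = ⊤ := by
  rw [← h64, Subgroup.card_eq_iff_eq_top]

theorem card_fixd_ne (h64 : Nat.card E = 64) {f : MulAut E} (hf : f ≠ 1) : Nat.card (fixd f) ≠ 64 := fun h =>
  hf (fixd_eq_top ((card_eq_64_iff h64 _).1 h))

/-- An element of order three fixes 1, 4 or 16 elements of an invariant subgroup of order 64. -/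
theorem card_fixd_three (h64 : Nat.card E = 64) {f : MulAut E} (h3 : f ^ 3 = 1) (hf : f ≠ 1) :
    Nat.card (fixd f) = 1 ∨ Nat.card (fixd f) = 4 ∨ Nat.card (fixd f) = 16 := by
  haveI : Fact (Nat.Prime 3) := ⟨Nat.prime_three⟩
  have h := card_fix_modEq f h3 ⊤ fun _ _ => Subgroup.mem_top _
  rw [top_inf_eq, Subgroup.card_top, h64] at h
  have := card_fixd_ne h64 hf
  rcases card_cases h64 (fixd f) with e | e | e | e | e | e | e <;> omega

variable (hE : ∀ x : E, x ^ 2 = 1)

set_option maxHeartbeats 1600000 in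
include hE in
/-- An element of order seven does not centralise a group of order nine and exponent three. -/
theorem false_of_nine (h64 : Nat.card E = 64) {z a b : MulAut E} (hz : z ^ 7 = 1) (hz1 : z ≠ 1)
    (ha : a ^ 3 = 1) (hb : b ^ 3 = 1) (hab : Commute a b) (hza : Commute z a) (hzb : Commute z b)
    (ha1 : a ≠ 1) (hnb : b ∉ Subgroup.zpowers a) : False := by
  haveI : Fact (Nat.Prime 3) := ⟨Nat.prime_three⟩
  haveI : Fact (Nat.Prime 7) := ⟨by norm_num⟩
  have hab2 : Commute a (b ^ 2) := hab.pow_right 2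
  let S : List (MulAut E) := [a, b, a * b, a * b ^ 2]
  have hS : ∀ h ∈ S, h ^ 3 = 1 ∧ h ≠ 1 ∧ Commute z h ∧ Commute h a ∧ Commute h b := by
    intro h hh
    simp only [S, List.mem_cons, List.mem_nil_iff, or_false] at hh
    rcases hh with rfl | rfl | rfl | rfl
    · exact ⟨ha, ha1, hza, Commute.refl _, hab⟩
    · exact ⟨hb, fun e => hnb (e ▸ one_mem _), hzb, hab.symm, Commute.refl _⟩
    · refine ⟨by rw [hab.mul_pow, ha, hb, one_mul], fun e => hnb ?_, hza.mul_right hzb,
        (Commute.refl a).mul_left hab.symm, hab.mul_left (Commute.refl b)⟩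
      rw [← inv_eq_of_mul_eq_one_right e]
      exact inv_mem (Subgroup.mem_zpowers a)
    · refine ⟨by rw [hab2.mul_pow, ha, ← pow_mul, pow_mul', hb, one_pow, one_mul], fun e => hnb ?_,
        hza.mul_right (hzb.pow_right 2), (Commute.refl a).mul_left hab2.symm,
        hab.mul_left ((Commute.refl b).pow_left 2)⟩
      have e2 : b ^ 2 = a⁻¹ := (inv_eq_of_mul_eq_one_right e).symm
      have e3 : b = (b ^ 2)⁻¹ := eq_inv_of_mul_eq_one_left (by rw [← pow_succ', hb])
      rw [e3, e2, inv_inv]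
      exact Subgroup.mem_zpowers a
  -- the four fixed subgroups generate
  have gen : ∀ K : Subgroup E, (∀ h ∈ S, fixd h ≤ K) → K = ⊤ := by
    intro K hK
    refine eq_top_iff.2 fun v _ => ?_
    have nm : ∀ h ∈ S, v * h v * (h ^ 2) v ∈ K := fun h hh => hK h hh (by
      rw [mem_fixd, map_mul, map_mul, ← MulAut.mul_apply, ← pow_two, ← MulAut.mul_apply, ← pow_succ',
        (hS h hh).1, MulAut.one_apply]
      rw [mul_comm (h v * (h ^ 2) v) v, mul_assoc])
    set u := fun i j : ℕ => (a ^ i * b ^ j) v with hu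
    have hA : u 0 0 * u 1 0 * u 2 0 * (u 0 1 * u 1 1 * u 2 1) * (u 0 2 * u 1 2 * u 2 2) ∈ fixd a := by
      have e : ∀ i j, a (u i j) = u (i + 1) j := fun i j => by
        rw [hu]; show a ((a ^ i * b ^ j) v) = _; rw [← MulAut.mul_apply, ← mul_assoc, ← pow_succ']
      have e3 : ∀ j, u 3 j = u 0 j := fun j => by simp [hu, ha]
      rw [mem_fixd]
      simp only [map_mul, e, e3]
      exact rotate_nine (M := Additive E) (u 0 0) (u 1 0) (u 2 0) (u 0 1) (u 1 1) (u 2 1) (u 0 2) (u 1 2) (u 2 2)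
    have n1 := nm a (by simp [S])
    have n2 := nm b (by simp [S])
    have n3 := nm (a * b) (by simp [S])
    have n4 := nm (a * b ^ 2) (by simp [S])
    have k := mul_mem (mul_mem (mul_mem n1 n2) (mul_mem n3 n4)) (inv_mem (hK a (by simp [S]) hA))
    have q1 : (a * b) ^ 2 = a ^ 2 * b ^ 2 := hab.mul_pow 2
    have q2 : (a * b ^ 2) ^ 2 = a ^ 2 * b := by
      rw [hab2.mul_pow, ← pow_mul, show (2 * 2 : ℕ) = 3 + 1 from rfl, pow_add, hb, one_mul, pow_one]
    have he : v * a v * (a ^ 2) v * (v * b v * (b ^ 2) v) *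
        (v * (a * b) v * ((a * b) ^ 2) v * (v * (a * b ^ 2) v * ((a * b ^ 2) ^ 2) v)) *
        (u 0 0 * u 1 0 * u 2 0 * (u 0 1 * u 1 1 * u 2 1) * (u 0 2 * u 1 2 * u 2 2))⁻¹ = v := by
      rw [q1, q2]
      simp only [hu, pow_zero, pow_one, one_mul, mul_one, MulAut.one_apply]
      exact sum_four (M := Additive E) v (a v) ((a ^ 2) v) (b v) ((b ^ 2) v) ((a * b) v) ((a ^ 2 * b ^ 2) v)
        ((a * b ^ 2) v) ((a ^ 2 * b) v) ((pow_two v).symm.trans (hE v))
    exact he ▸ k
  -- some fixed subgroup is moved by z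
  obtain ⟨h, hh, hne⟩ : ∃ h ∈ S, ¬ fixd h ≤ fixd z := by
    by_contra hc
    push Not at hc
    exact hz1 (fixd_eq_top (gen (fixd z) hc))
  obtain ⟨h3, h1, hzh, hha, hhb⟩ := hS h hh
  have hinv : ∀ w ∈ fixd h, z w ∈ fixd h := fun w hw => fixd_mem_of_commute hzh.symm hw
  have hcF := card_fix_modEq z hz (fixd h) hinv
  have hlt : Nat.card (fixd h ⊓ fixd z : Subgroup E) < Nat.card (fixd h) := by
    refine lt_of_le_of_ne (Subgroup.card_le_of_le inf_le_left) fun e => hne ?_
    exact (Subgroup.eq_of_le_of_card_ge inf_le_left e.ge) ▸ inf_le_right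
  have hdF := Subgroup.card_dvd_of_le (inf_le_left : fixd h ⊓ fixd z ≤ fixd h)
  obtain ⟨h16, hF2⟩ : Nat.card (fixd h) = 16 ∧ Nat.card (fixd h ⊓ fixd z : Subgroup E) = 2 := by
    rcases card_fixd_three h64 h3 h1 with e | e | e <;>
      rcases card_cases h64 (fixd h ⊓ fixd z) with e' | e' | e' | e' | e' | e' | e' <;>
      rw [e, e'] at hcF hlt <;> omega
  obtain ⟨w, hw, hw1⟩ : ∃ w ∈ fixd h ⊓ fixd z, w ≠ 1 := by
    obtain ⟨⟨w, hw⟩, hw1⟩ := Subgroup.ne_bot_iff_exists_ne_one.1
      (fun e => by rw [e, Subgroup.card_bot] at hF2; omega : fixd h ⊓ fixd z ≠ ⊥)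
    exact ⟨w, hw, fun e => hw1 (Subtype.ext e)⟩
  have huniq : ∀ x ∈ fixd h ⊓ fixd z, x ≠ 1 → x = w := fun x hx hx1 => by
    obtain ⟨p, q, hpq, hu⟩ := Nat.card_eq_two_iff.1 hF2
    have hall : ∀ y : (fixd h ⊓ fixd z : Subgroup E), y = p ∨ y = q := fun y => by
      have := hu.symm ▸ Set.mem_univ y
      simpa using this
    rcases hall ⟨x, hx⟩ with e1 | e1 <;> rcases hall ⟨w, hw⟩ with e2 | e2 <;> rcases hall 1 with e3 | e3 <;>
      first
      | exact congrArg Subtype.val (e1.trans e2.symm)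
      | exact absurd (congrArg Subtype.val (e1.trans e3.symm)) hx1
      | exact absurd (congrArg Subtype.val (e2.trans e3.symm)) hw1
  have fixesW : ∀ g : MulAut E, g ^ 3 = 1 → Commute h g → Commute z g → fixd h ≤ fixd g := by
    intro g g3 hhg hzg
    have hgw : w ∈ fixd g := huniq (g w)
      (Subgroup.mem_inf.2 ⟨fixd_mem_of_commute hhg (Subgroup.mem_inf.1 hw).1,
        fixd_mem_of_commute hzg (Subgroup.mem_inf.1 hw).2⟩) fun e => hw1 (g.injective (e.trans (map_one g).symm))
    have hcg := card_fix_modEq g g3 (fixd h) fun x hx => fixd_mem_of_commute hhg hx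
    have hinv' : ∀ x ∈ fixd h ⊓ fixd g, z x ∈ fixd h ⊓ fixd g := fun x hx =>
      Subgroup.mem_inf.2 ⟨hinv x (Subgroup.mem_inf.1 hx).1, fixd_mem_of_commute hzg.symm (Subgroup.mem_inf.1 hx).2⟩
    have hcz := card_fix_modEq z hz (fixd h ⊓ fixd g) hinv'
    have hle : Nat.card ((fixd h ⊓ fixd g) ⊓ fixd z : Subgroup E) ≤ 2 :=
      hF2 ▸ Subgroup.card_le_of_le (inf_le_inf_right _ inf_le_left)
    have hge : 2 ≤ Nat.card (fixd h ⊓ fixd g : Subgroup E) := (Subgroup.one_lt_card_iff_ne_bot _).2 fun e =>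
      hw1 (Subgroup.mem_bot.1 (e ▸ Subgroup.mem_inf.2 ⟨(Subgroup.mem_inf.1 hw).1, hgw⟩))
    have hle' := Subgroup.card_le_of_le (inf_le_left : fixd h ⊓ fixd g ≤ fixd h)
    have hd := Subgroup.card_dvd_of_le (inf_le_left : fixd h ⊓ fixd g ⊓ fixd z ≤ fixd h ⊓ fixd g)
    have e16 : Nat.card (fixd h ⊓ fixd g : Subgroup E) = 16 := by
      rcases card_cases h64 (fixd h ⊓ fixd g) with e | e | e | e | e | e | e <;>
        rcases card_cases h64 ((fixd h ⊓ fixd g) ⊓ fixd z) with e' | e' | e' | e' | e' | e' | e' <;>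
        rw [e] at hcg hcz hge hle' <;> rw [e'] at hcz hle <;> rw [h16] at hcg hle' <;> omega
    have e := Subgroup.eq_of_le_of_card_ge (inf_le_left : fixd h ⊓ fixd g ≤ fixd h) (by rw [e16, h16])
    exact e.ge.trans inf_le_right
  have fa := fixesW a ha hha hza
  have fb := fixesW b hb hhb hzb
  have hall : ∀ g ∈ S, fixd g ≤ fixd h := by
    intro g hg
    obtain ⟨g3, g1, -, -, -⟩ := hS g hg
    have hsub : fixd h ≤ fixd g := fun x hx => by
      have xa : a x = x := fa hx
      have xb : b x = x := fb hx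
      simp only [S, List.mem_cons, List.mem_nil_iff, or_false] at hg
      rcases hg with rfl | rfl | rfl | rfl
      · exact xa
      · exact xb
      · show a (b x) = x; rw [xb, xa]
      · show a ((b ^ 2) x) = x; rw [pow_two, MulAut.mul_apply, xb, xb, xa]
    refine (Subgroup.eq_of_le_of_card_ge hsub ?_).ge
    rcases card_fixd_three h64 g3 g1 with e | e | e <;> omega
  exact absurd ((card_eq_64_iff h64 _).2 (gen _ hall)) (by omega)

/-- An element of order five or thirty-one does not commute with an element of order seven. -/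
theorem false_of_commute_seven (h64 : Nat.card E = 64) {y z : MulAut E} {r : ℕ} (hr : r = 5 ∨ r = 31)
    (hy : y ^ r = 1) (hy1 : y ≠ 1) (hz : z ^ 7 = 1) (hz1 : z ≠ 1) (hc : Commute z y) : False := by
  haveI : Fact (Nat.Prime 7) := ⟨by norm_num⟩
  haveI : Fact r.Prime := ⟨by rcases hr with rfl | rfl <;> norm_num⟩
  have hY := card_fix_modEq y hy ⊤ fun _ _ => Subgroup.mem_top _
  rw [top_inf_eq, Subgroup.card_top, h64] at hY
  have hZ := card_fix_modEq z hz ⊤ fun _ _ => Subgroup.mem_top _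
  rw [top_inf_eq, Subgroup.card_top, h64] at hZ
  have nY := card_fixd_ne h64 hy1
  have nZ := card_fixd_ne h64 hz1
  have hYz := card_fix_modEq z hz (fixd y) fun x hx => fixd_mem_of_commute hc.symm hx
  have hZy := card_fix_modEq y hy (fixd z) fun x hx => fixd_mem_of_commute hc hx
  rw [inf_comm] at hZy
  have d1 := Subgroup.card_le_of_le (inf_le_left : fixd y ⊓ fixd z ≤ fixd y)
  have d2 := Subgroup.card_le_of_le (inf_le_right : fixd y ⊓ fixd z ≤ fixd z)
  rcases card_cases h64 (fixd y ⊓ fixd z) with e | e | e | e | e | e | e <;>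
    rcases card_cases h64 (fixd y) with e1 | e1 | e1 | e1 | e1 | e1 | e1 <;>
    rcases card_cases h64 (fixd z) with e2 | e2 | e2 | e2 | e2 | e2 | e2 <;>
    rw [e1] at hY nY hYz d1 <;> rw [e2] at hZ nZ hZy d2 <;> rw [e] at hYz hZy d1 d2 <;>
    rcases hr with rfl | rfl <;> omega

/-- A group of order at least nine of three-elements without a subgroup of order nine and exponent
three is generated by an element of order nine acting irreducibly. -/
theorem exists_irreducible (h64 : Nat.card E = 64) (Q : Subgroup (MulAut E)) (hQ : IsPGroup 3 Q)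
    (h9 : 9 ∣ Nat.card Q)
    (hno : ∀ a ∈ Q, ∀ b ∈ Q, a ^ 3 = 1 → b ^ 3 = 1 → Commute a b → a ≠ 1 → b ∈ Subgroup.zpowers a) :
    ∃ x ∈ Q, Subgroup.zpowers x = Q ∧ x ≠ 1 ∧ ∀ W : Subgroup E, (∀ w ∈ W, x w ∈ W) → W = ⊥ ∨ W = ⊤ := by
  classical
  haveI : Fact (Nat.Prime 3) := ⟨Nat.prime_three⟩
  haveI : Nontrivial Q := by
    rw [← Finite.one_lt_card_iff_nontrivial]
    have := Nat.le_of_dvd Nat.card_pos h9
    omega
  haveI := hQ.center_nontrivial
  have hd : 3 ∣ Nat.card (Subgroup.center Q) := by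
    obtain ⟨k, hk⟩ := (hQ.to_subgroup (Subgroup.center Q)).exists_card_eq
    have := Finite.one_lt_card (α := Subgroup.center Q)
    cases k with
    | zero => omega
    | succ k => exact hk ▸ dvd_pow_self 3 k.succ_ne_zero
  obtain ⟨c, hcord⟩ := exists_prime_orderOf_dvd_card' (G := Subgroup.center Q) 3 hd
  set d : MulAut E := ((c : Q) : MulAut E) with hdef
  have hd3 : d ^ 3 = 1 := by
    have := congrArg (fun q : Subgroup.center Q => ((q : Q) : MulAut E)) (hcord ▸ pow_orderOf_eq_one c)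
    simpa [hdef] using this
  have hd1 : d ≠ 1 := fun e => by
    have : c = 1 := Subtype.ext (Subtype.ext e)
    rw [this, orderOf_one] at hcord
    omega
  have hdc : ∀ q ∈ Q, Commute d q := fun q hq => by
    have := congrArg Subtype.val (Subgroup.mem_center_iff.1 c.2 ⟨q, hq⟩)
    exact this.symm
  have h3mem : ∀ q ∈ Q, q ^ 3 = 1 → q ∈ Subgroup.zpowers d := fun q hq hq3 =>
    hno d (c : Q).2 q hq hd3 hq3 (hdc q hq) hd1
  have key : ∀ q ∈ Q, q ≠ 1 → ∃ n : ℕ, d = q ^ n := by
    intro q hq hq1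
    obtain ⟨k, hk⟩ := hQ ⟨q, hq⟩
    have hk' : q ^ 3 ^ k = 1 := by simpa using congrArg Subtype.val hk
    obtain ⟨m, -, hm⟩ := (Nat.dvd_prime_pow Nat.prime_three).1 (orderOf_dvd_of_pow_eq_one hk')
    cases m with
    | zero => exact absurd (orderOf_eq_one_iff.1 (by simpa using hm)) hq1
    | succ m =>
      have h3 : (q ^ 3 ^ m) ^ 3 = 1 := by rw [← pow_mul, ← pow_succ, ← hm, pow_orderOf_eq_one]
      have h1 : q ^ 3 ^ m ≠ 1 := fun e => by
        have := Nat.le_of_dvd (pow_pos (by norm_num) m) (hm ▸ orderOf_dvd_of_pow_eq_one e)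
        rw [pow_succ] at this
        have := pow_pos (show 0 < 3 by norm_num) m
        omega
      have hmem : d ∈ Subgroup.zpowers (q ^ 3 ^ m) :=
        hno _ (Q.pow_mem hq _) d (c : Q).2 h3 hd3 (hdc _ (Q.pow_mem hq _)).symm h1
      obtain ⟨i, hi⟩ := (IsOfFinOrder.mem_powers_iff_mem_zpowers
        (isOfFinOrder_of_finite (q ^ 3 ^ m))).2 hmem
      exact ⟨3 ^ m * i, by rw [pow_mul]; exact hi.symm⟩
  -- freeness away from the fixed points of d
  have free : ∀ (S : Set E), (∀ q ∈ Q, ∀ v ∈ S, q v ∈ S) → (∀ v ∈ S, d v ≠ v) → Nat.card Q ∣ Nat.card S := by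
    intro S hS hfree
    letI : MulAction Q S :=
      { smul := fun q v => ⟨(q : MulAut E) v, hS q q.2 v v.2⟩
        one_smul := fun v => rfl
        mul_smul := fun q r v => rfl }
    refine card_dvd_of_free fun q v hqv => ?_
    by_contra hq1
    obtain ⟨n, hn⟩ := key q q.2 fun e => hq1 (Subtype.ext e)
    have hfix : (q : MulAut E) v = v := congrArg Subtype.val hqv
    have hpow : ∀ k : ℕ, ((q : MulAut E) ^ k) (v : E) = v := fun k => by
      induction k with
      | zero => rfl
      | succ k ih => rw [pow_succ, MulAut.mul_apply, hfix, ih]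
    exact hfree v v.2 (hn ▸ hpow n)
  have hC : fixd d = ⊥ := by
    have h := free ((fixd d : Set E)ᶜ) (fun q hq v hv hv' => hv (by
        have := fixd_mem_of_commute (hdc _ (inv_mem hq)) hv'
        simpa using this)) (fun v hv => hv)
    have hcard : Nat.card ((fixd d : Set E)ᶜ : Set E) = 64 - Nat.card (fixd d) := by
      rw [Nat.card_coe_set_eq, Set.ncard_compl, h64, ← Nat.card_coe_set_eq]
      rfl
    rw [hcard] at h
    have := dvd_trans h9 h
    refine Subgroup.card_eq_one.1 ?_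
    rcases card_fixd_three h64 hd3 hd1 with e | e | e <;> rw [e] at this ⊢ <;> omega
  have hfree : ∀ v : E, v ≠ 1 → d v ≠ v := fun v hv e => hv (Subgroup.mem_bot.1 (hC ▸ mem_fixd.2 e))
  have h63 : Nat.card Q = 9 := by
    have h := free {v | v ≠ 1} (fun q _ v hv e => hv (q.injective (e.trans (map_one q).symm))) hfree
    rw [Nat.card_coe_set_eq, show {v : E | v ≠ 1} = ({1} : Set E)ᶜ from rfl, Set.ncard_compl,
      Set.ncard_singleton, h64] at h
    obtain ⟨k, hk⟩ := hQ.exists_card_eq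
    rw [hk] at h h9 ⊢
    have : k ≤ 2 := by
      by_contra hc
      exact absurd (dvd_trans (pow_dvd_pow 3 (by omega : 3 ≤ k)) h) (by norm_num)
    interval_cases k <;> first | rfl | norm_num at h9
  obtain ⟨x, hx, hx3⟩ : ∃ x ∈ Q, x ^ 3 ≠ 1 := by
    by_contra hc
    push Not at hc
    have := Subgroup.card_le_of_le (fun q hq => h3mem q hq (hc q hq) : Q ≤ Subgroup.zpowers d)
    rw [Nat.card_zpowers, h63] at this
    have := Nat.le_of_dvd (by norm_num) (orderOf_dvd_of_pow_eq_one hd3)
    omega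
  have hox : orderOf x = 9 := by
    have h : orderOf x ∣ 9 := h63 ▸ Subgroup.orderOf_dvd_natCard Q hx
    have h' : orderOf x ≠ 1 ∧ orderOf x ≠ 3 :=
      ⟨fun e => hx3 (by rw [orderOf_eq_one_iff.1 e, one_pow]), fun e => hx3 (e ▸ pow_orderOf_eq_one x)⟩
    have := Nat.le_of_dvd (by norm_num) h
    interval_cases (orderOf x) <;> omega
  have hgen : Subgroup.zpowers x = Q :=
    Subgroup.eq_of_le_of_card_ge (Subgroup.zpowers_le.2 hx) (by rw [Nat.card_zpowers, hox, h63])
  refine ⟨x, hx, hgen, fun e => hx3 (by rw [e, one_pow]), fun W hW => ?_⟩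
  have hWQ : ∀ q ∈ Q, ∀ w ∈ W, q w ∈ W := by
    intro q hq
    obtain ⟨n, rfl⟩ := (IsOfFinOrder.mem_powers_iff_mem_zpowers (isOfFinOrder_of_finite x)).2 (hgen.symm ▸ hq)
    induction n with
    | zero => exact fun w hw => hw
    | succ n ih => exact fun w hw => by show (x ^ (n + 1)) w ∈ W; rw [pow_succ, MulAut.mul_apply]; exact ih (Q.pow_mem hx n) _ (hW w hw)
  have h := free ((W : Set E) \ {1}) (fun q hq v hv => ⟨hWQ q hq v hv.1,
    fun e => hv.2 (q.injective (e.trans (map_one q).symm))⟩) (fun v hv => hfree v hv.2)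
  rw [h63, Nat.card_coe_set_eq, Set.ncard_sdiff_singleton_of_mem (one_mem W), ← Nat.card_coe_set_eq] at h
  change 9 ∣ Nat.card W - 1 at h
  rcases card_cases h64 W with e | e | e | e | e | e | e <;> rw [e] at h
  · exact Or.inl (Subgroup.card_eq_one.1 e)
  · omega
  · omega
  · omega
  · omega
  · omega
  · exact Or.inr ((card_eq_64_iff h64 W).1 e)

end CfsgLib.OutTwo.Six
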