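import Cfsg.Agent.Lib.OutTwo.Main

/-!
`Out G` is solvable: Sylow 2-subgroup on three generators with a non-trivial odd automiser.
-/

set_option autoImplicit false
set_option linter.style.haveILetI false
set_option linter.style.longLine false
set_option maxHeartbeats 1000000

open Subgroup
open scoped Pointwise commutatorElement

namespace CfsgLib.OutTwo

universe u

variable {G : Type u} [Group G] [Finite G] [IsSimpleGroup G] (S : Sylow 2 G)

theorem case_three (hS1 : (S : Subgroup G) ≠ ⊥)
    (h : (∃ a b c : ↥S, Subgroup.closure ({a, b, c} : Set ↥S) = ⊤) ∧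
      ∃ g ∈ Subgroup.normalizer ((S : Subgroup G) : Set G), Odd (orderOf g) ∧
        g ∉ Subgroup.centralizer ((S : Subgroup G) : Set G)) : Group.IsSolvable (Cfsg.Out G) := by
  obtain ⟨⟨a, b, c, habc⟩, g, hg, hgodd, hgc⟩ := h
  haveI : Fact (Nat.Prime 2) := ⟨Nat.prime_two⟩
  letI : CommGroup (↥(S : Subgroup G) ⧸ frattini ↥(S : Subgroup G)) :=
    { (inferInstance : Group _) with mul_comm := frattiniQuot_comm S }
  haveI := frAct_ker S hS1
  let mk : ↥(S : Subgroup G) →* ↥(S : Subgroup G) ⧸ frattini ↥(S : Subgroup G) := QuotientGroup.mk' _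
  have h8 : Nat.card (↥(S : Subgroup G) ⧸ frattini ↥(S : Subgroup G)) ≤ 8 := by
    have h1 := card_closure_insert_le (frattiniQuot_sq S) (mk a) (insert (mk b) {mk c})
    have h2 := card_closure_insert_le (frattiniQuot_sq S) (mk b) ({mk c} : Set _)
    have h3 := card_closure_insert_le (frattiniQuot_sq S) (mk c) ∅
    rw [Subgroup.closure_empty, Subgroup.card_bot, ← Set.singleton_def (mk c)] at h3
    have htop : closure (insert (mk a) (insert (mk b) {mk c})) = ⊤ := by
      rw [show insert (mk a) (insert (mk b) {mk c}) = mk '' {a, b, c} by simp [Set.image_insert_eq],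
        ← MonoidHom.map_closure, habc, Subgroup.map_top_of_surjective _ (QuotientGroup.mk'_surjective _)]
    rw [htop, Subgroup.card_top] at h1
    omega
  refine out_isSolvable_of_hom S (frAct S) fun N hN hNdef => ?_
  haveI := hN
  -- the inner part has odd order
  let cN : ↥(normalizer ((S : Subgroup G) : Set G)) →* ↥(stab (S : Subgroup G)) :=
    (MulAut.conj.comp (normalizer ((S : Subgroup G) : Set G)).subtype).codRestrict _ fun x => conj_mem_stab x.2
  let ψ := (frAct S).rangeRestrict.comp cN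
  have hNψ : N = ψ.range := by
    rw [hNdef]
    ext z
    constructor
    · intro hz
      obtain ⟨φ, hφ, hφz⟩ := Subgroup.mem_map.mp hz
      obtain ⟨x, hx⟩ := MonoidHom.mem_range.mp (Subgroup.mem_subgroupOf.mp hφ)
      have hxN : x ∈ normalizer ((S : Subgroup G) : Set G) :=
        mem_normalizer_of_conj_mem_stab (by rw [hx]; exact φ.2)
      refine MonoidHom.mem_range.mpr ⟨⟨x, hxN⟩, ?_⟩
      have he : cN ⟨x, hxN⟩ = φ := Subtype.ext hx
      rw [← hφz]
      exact congrArg (frAct S).rangeRestrict he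
    · intro hz
      obtain ⟨x, hx⟩ := MonoidHom.mem_range.mp hz
      refine Subgroup.mem_map.mpr ⟨cN x, ?_, hx⟩
      exact Subgroup.mem_subgroupOf.mpr ⟨(x : G), rfl⟩
  let P := (S : Subgroup G).subgroupOf (normalizer ((S : Subgroup G) : Set G))
  have hP : P ≤ ψ.ker := by
    intro x hx
    refine Subtype.ext (MulEquiv.ext fun v => ?_)
    obtain ⟨v, rfl⟩ := QuotientGroup.mk_surjective v
    show QuotientGroup.mk _ = QuotientGroup.mk v
    rw [QuotientGroup.eq]
    have e : resAut (S : Subgroup G) (cN x) v = ⟨x, hx⟩ * v * ⟨x, hx⟩⁻¹ := Subtype.ext rfl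
    show (resAut (S : Subgroup G) (cN x) v)⁻¹ * v ∈ _
    rw [e]
    have h1 := CfsgLib.OddOrder.commutator_le_frattini_of_isPGroup S.isPGroup'
      (Subgroup.commutator_mem_commutator (mem_top (⟨x, hx⟩ : ↥(S : Subgroup G))) (mem_top v⁻¹))
    rw [commutatorElement_def, inv_inv] at h1
    convert h1 using 1
    group
  have hPodd : Odd P.index := by
    have h1 := S.not_dvd_index
    have h2 : P.index ∣ (S : Subgroup G).index :=
      ⟨(normalizer ((S : Subgroup G) : Set G)).index, (Subgroup.relIndex_mul_index Subgroup.le_normalizer).symm⟩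
    exact Nat.not_even_iff_odd.mp fun he => h1 ((even_iff_two_dvd.mp he).trans h2)
  have hodd : Odd (Nat.card N) := by
    rw [hNψ, ← Subgroup.index_ker]
    exact hPodd.of_dvd_nat (Subgroup.index_dvd_of_le hP)
  have hne : N ≠ ⊥ := by
    intro hbot
    apply hgc
    have h1 : ψ ⟨g, hg⟩ = 1 := Subgroup.mem_bot.mp (hbot ▸ hNψ ▸ ⟨⟨g, hg⟩, rfl⟩)
    have h2 : CfsgLib.EssSmall.frattiniQuotAct ↥(S : Subgroup G) (resAut (S : Subgroup G) (cN ⟨g, hg⟩)) = 1 :=
      congrArg Subtype.val h1
    set r := resAut (S : Subgroup G) (cN ⟨g, hg⟩) with hr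
    obtain ⟨k, hk⟩ := CfsgLib.EssSmall.isPGroup_ker_frattiniQuotAct S.isPGroup'
      (CfsgLib.EssSmall.frattiniQuotAct ↥(S : Subgroup G)).ker ⟨⟨r, h2⟩, h2⟩
    have hk' : r ^ 2 ^ k = 1 := by
      simpa using congrArg Subtype.val (congrArg Subtype.val hk)
    have hg1 : r ^ orderOf g = 1 := by
      rw [hr, ← map_pow, ← map_pow]
      have : (⟨g, hg⟩ : ↥(normalizer ((S : Subgroup G) : Set G))) ^ orderOf g = 1 :=
        Subtype.ext (by simp [pow_orderOf_eq_one])
      rw [this, map_one, map_one]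
    have hr1 : r = 1 := by
      have hcop : Nat.Coprime (2 ^ k) (orderOf g) := Nat.Coprime.pow_left _ (Nat.coprime_two_left.mpr hgodd)
      have := Nat.dvd_gcd (orderOf_dvd_of_pow_eq_one hk') (orderOf_dvd_of_pow_eq_one hg1)
      rw [hcop.gcd_eq_one] at this
      exact orderOf_eq_one_iff.mp (Nat.dvd_one.mp this)
    rw [mem_centralizer_iff]
    intro s hs
    have := congrArg Subtype.val (DFunLike.congr_fun hr1 ⟨s, hs⟩)
    have h3 : g * s * g⁻¹ = s := this
    exact (mul_inv_eq_iff_eq_mul.mp h3).symm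
  exact isSolvable_card_eight (frattiniQuot_sq S) h8 (frAct S).range N hodd hne

end CfsgLib.OutTwo
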